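import Groth.Agent.SubtrVal.Noeth
import Groth.Prelude.Def_HTop
import Mathlib.AlgebraicGeometry.Morphisms.FinitePresentation
import Mathlib.RingTheory.FinitePresentation

/-!
# Universally submersive families over Noetherian schemes
-/

set_option autoImplicit false
set_option linter.style.haveILetI false
set_option backward.isDefEq.respectTransparency false
set_option backward.isDefEq.respectTransparency.types false

universe u

open CategoryTheory CategoryTheory.Limits AlgebraicGeometry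

namespace Groth.Agent.SubtrVal

variable {X : Scheme.{u}} [IsNoetherian X] (E : PreZeroHypercover.{u} X) [Finite E.I₀]
  [∀ i, QuasiCompact (E.f i)]

theorem quasiCompact_sigmaDesc : QuasiCompact (Sigma.desc E.f) := by
  have : ∀ i, CompactSpace (E.X i) := fun i => QuasiCompact.compactSpace_of_compactSpace (E.f i)
  have : CompactSpace ↥(∐ E.X) := by
    refine ⟨?_⟩
    have e : (Set.univ : Set ↥(∐ E.X)) = ⋃ i, Set.range (Sigma.ι E.X i) := by
      refine (Set.eq_univ_of_forall fun x => ?_).symm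
      obtain ⟨i, y, hy⟩ := (sigmaOpenCover E.X).exists_eq x
      exact Set.mem_iUnion.2 ⟨i, y, hy⟩
    rw [e]
    exact isCompact_iUnion fun i => isCompact_range (Sigma.ι E.X i).continuous
  infer_instance

/-- Lifting of specialisations to a member of a universally submersive finite family. -/
theorem exists_lift_member (hE : SGA1.UnivSubmersive (Sigma.desc E.f)) {y y' : X} (h : y' ⤳ y) :
    ∃ (i : E.I₀) (u ξ : E.X i), ξ ⤳ u ∧ E.f i u = y ∧ E.f i ξ = y' := by
  haveI := quasiCompact_sigmaDesc E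
  obtain ⟨x, x', hx, h1, h2⟩ :=
    (univSSubtrusive_of_univSubmersive _ hE) (𝟙 _) (𝟙 _) (Sigma.desc E.f) (IsPullback.of_vert_isIso ⟨by simp⟩) h
  obtain ⟨i, u, hu⟩ := (sigmaOpenCover E.X).exists_eq x
  obtain ⟨ξ, hξ⟩ : x' ∈ Set.range (Sigma.ι E.X i) :=
    hx.mem_open (Sigma.ι E.X i).isOpenEmbedding.isOpen_range ⟨u, hu⟩
  refine ⟨i, u, ξ, (Sigma.ι E.X i).isOpenEmbedding.isInducing.specializes_iff.1 (by rw [hξ]; exact hu.symm ▸ hx), ?_, ?_⟩
  · rw [← h1, ← hu]
    exact (congrArg (fun m : E.X i ⟶ X => m u) (Sigma.ι_desc E.f i)).symm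
  · rw [← h2, ← hξ]
    exact (congrArg (fun m : E.X i ⟶ X => m ξ) (Sigma.ι_desc E.f i)).symm

theorem exists_lift_maximal (hE : SGA1.UnivSubmersive (Sigma.desc E.f)) (x : X) :
    ∃ (i : E.I₀) (ξ u : E.X i), ξ ⤳ u ∧ E.f i u = x ∧ closure {E.f i ξ} ∈ irreducibleComponents ↥X := by
  have hirr := isIrreducible_irreducibleComponent (x := x)
  have hgp := hirr.isGenericPoint_genericPoint isClosed_irreducibleComponent
  obtain ⟨i, u, ξ, h1, h2, h3⟩ := exists_lift_member E hE (hgp.specializes mem_irreducibleComponent)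
  refine ⟨i, ξ, u, h1, h2, ?_⟩
  rw [h3, hgp.def]
  exact irreducibleComponent_mem_irreducibleComponents x

omit [AlgebraicGeometry.IsNoetherian X] [Finite E.I₀] [∀ i, QuasiCompact (E.f i)] in
theorem locallyOfFinitePresentation_of_noetherian {Y : Scheme.{u}} [IsLocallyNoetherian X] (f : Y ⟶ X)
    [LocallyOfFiniteType f] : LocallyOfFinitePresentation f := by
  rw [HasRingHomProperty.iff_appLE (P := @LocallyOfFinitePresentation)]
  intro U V e
  have h₁ : (f.appLE U V e).hom.FiniteType := HasRingHomProperty.appLE (P := @LocallyOfFiniteType) f inferInstance U V e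
  haveI : IsNoetherianRing Γ(X, U) := IsLocallyNoetherian.component_noetherian U
  algebraize [(f.appLE U V e).hom]
  exact Algebra.FinitePresentation.of_finiteType.1 inferInstance

theorem isHCover_of_univSubmersive [∀ i, LocallyOfFiniteType (E.f i)] (hE : SGA1.UnivSubmersive (Sigma.desc E.f)) :
    HTop.IsHCover E := by
  classical
  refine ⟨fun i => locallyOfFinitePresentation_of_noetherian (E.f i), fun U => ?_⟩
  haveI := quasiCompact_sigmaDesc E
  have hcov : ∀ i, ∃ t : Finset {V : (E.X i).affineOpens // (V : (E.X i).Opens) ≤ E.f i ⁻¹ᵁ U.1},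
      ((E.f i ⁻¹ᵁ U.1 : (E.X i).Opens) : Set (E.X i)) ⊆ ⋃ V ∈ t, ((V.1 : (E.X i).Opens) : Set (E.X i)) := by
    intro i
    refine ((E.f i).isCompact_preimage U.2.isCompact).elim_finite_subcover _ (fun V => V.1.1.2) fun x hx => ?_
    obtain ⟨V, hV, hxV, hVU⟩ := exists_isAffineOpen_mem_and_subset (X := E.X i) (x := x) (U := E.f i ⁻¹ᵁ U.1) hx
    exact Set.mem_iUnion.2 ⟨⟨⟨V, hV⟩, hVU⟩, hxV⟩
  choose t ht using hcov
  obtain ⟨m, ⟨e⟩⟩ := Finite.exists_equiv_fin (Σ i, t i)
  let W : Fin m → Σ i, t i := e.symm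
  let F : PreZeroHypercover.{0} (U.1 : X.Opens).toScheme :=
    { I₀ := Fin m
      X := fun j => ((W j).2.1.1 : (E.X (W j).1).Opens).toScheme
      f := fun j => (E.f (W j).1).resLE U.1 _ (W j).2.1.2 }
  haveI : IsAffine (U.1 : X.Opens).toScheme := U.2
  refine ⟨F, ⟨inferInstance, inferInstanceAs (Finite (Fin m)), fun j => (W j).2.1.1.2, fun V _ _ g => ?_⟩,
    fun j => ⟨(W j).1, ((W j).2.1.1 : (E.X (W j).1).Opens).ι, (Scheme.Hom.resLE_comp_ι _ _).symm⟩⟩
  obtain ⟨V', _, _, _, a, b, hb, hab⟩ :=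
    (univ_iff_lift _).1 (univSSubtrusive_of_univSubmersive _ hE) V (g ≫ (U.1 : X.Opens).ι)
  obtain ⟨φ, hφ⟩ : ∃ φ : V ⟶ CommRingCat.of V', Spec.map φ = b := ⟨_, Spec.map_preimage _⟩
  obtain ⟨w, hw, hsp, hgen⟩ := pair_of_surjective b hb.surj (IsLocalRing.closedPoint V)
  have hinj : Function.Injective φ.hom := by
    subst hφ
    exact (RingHom.injective_iff_ker_eq_bot _).2
      ((RingHom.ker_eq_comap_bot _).trans (congrArg PrimeSpectrum.asIdeal hgen))
  have hclosed : b (IsLocalRing.closedPoint V') = IsLocalRing.closedPoint V := by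
    have h1 : IsLocalRing.closedPoint V ⤳ b (IsLocalRing.closedPoint V') :=
      hw ▸ (IsLocalRing.specializes_closedPoint w).map b.continuous
    exact (h1.antisymm (IsLocalRing.specializes_closedPoint _)).eq.symm
  have hloc : IsLocalHom φ.hom := ⟨fun r hr => by
    by_contra hna
    subst hφ
    have : r ∈ (Spec.map φ (IsLocalRing.closedPoint V')).asIdeal := hclosed.symm ▸ hna
    exact this hr⟩
  obtain ⟨i, u, hu⟩ := (sigmaOpenCover E.X).exists_eq (a (IsLocalRing.closedPoint V'))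
  have hfu : E.f i u ∈ U.1 := by
    have e1 : E.f i u = (a ≫ Sigma.desc E.f) (IsLocalRing.closedPoint V') := by
      rw [Scheme.Hom.comp_apply, ← hu]
      exact (congrArg (fun k : E.X i ⟶ X => k u) (Sigma.ι_desc E.f i)).symm
    rw [e1, hab]
    exact (g (b (IsLocalRing.closedPoint V'))).2
  obtain ⟨V₀, hV₀, huV⟩ := Set.mem_iUnion₂.1 (ht i hfu)
  let j : Fin m := e ⟨i, ⟨V₀, hV₀⟩⟩
  have hj : W j = ⟨i, ⟨V₀, hV₀⟩⟩ := e.symm_apply_apply _
  let ι' := (V₀.1 : (E.X i).Opens).ι ≫ Sigma.ι E.X i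
  have hrange : Set.range a ⊆ Set.range ι' := by
    rintro _ ⟨s, rfl⟩
    refine ((IsLocalRing.specializes_closedPoint s).map a.continuous).mem_open ι'.isOpenEmbedding.isOpen_range ?_
    exact ⟨⟨u, huV⟩, hu⟩
  let l := IsOpenImmersion.lift ι' a hrange
  have hl : l ≫ (E.f i).resLE U.1 (V₀.1 : (E.X i).Opens) V₀.2 = b ≫ g := by
    rw [← cancel_mono (U.1 : X.Opens).ι, Category.assoc, Scheme.Hom.resLE_comp_ι, Category.assoc, ← hab]
    refine Eq.trans ?_ (congrArg (· ≫ Sigma.desc E.f) (IsOpenImmersion.lift_fac ι' a hrange))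
    show _ = (IsOpenImmersion.lift ι' a hrange ≫ ι') ≫ _
    rw [Category.assoc]
    congr 1
    simp [ι', Category.assoc]
  obtain ⟨k, hk⟩ : ∃ k : Spec (CommRingCat.of V') ⟶ F.X j, k ≫ F.f j = b ≫ g := by
    show ∃ k : Spec (CommRingCat.of V') ⟶ ((W j).2.1.1 : (E.X (W j).1).Opens).toScheme,
      k ≫ (E.f (W j).1).resLE U.1 _ (W j).2.1.2 = b ≫ g
    rw [hj]
    exact ⟨l, hl⟩
  exact ⟨CommRingCat.of V', inferInstance, inferInstance, φ, ⟨hinj, hloc⟩, j, k, hφ ▸ hk⟩

end Groth.Agent.SubtrVal
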