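import Groth.Agent.ProConsLib.Affine
import Groth.Agent.S19530
import Mathlib.Topology.LocallyClosed

/-!
# Pro-constructible sets, closures and S-subtrusive morphisms
-/

set_option autoImplicit false
set_option linter.style.haveILetI false
set_option backward.isDefEq.respectTransparency false

universe u

open CategoryTheory AlgebraicGeometry Topology Set Groth.Agent.ProConsLib

namespace Groth.Agent.SubtrVal

attribute [local instance] spectralSpace_affine spectralSpace_affine_set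

variable {X Y : Scheme.{u}}

theorem mem_closure_pro {E : Set X} (hE : ProCons.IsProConstructible E) (x : X) :
    x ∈ closure E ↔ ∃ x' ∈ E, x' ⤳ x := by
  rw [← compl_compl (closure E), ← interior_compl, mem_compl_iff,
    mem_interior_iff_generizations (isPro_iff_isInd_compl.1 hE)]
  simp only [mem_compl_iff, not_forall, not_not]
  exact ⟨fun ⟨x', h1, h2⟩ => ⟨x', h2, h1⟩, fun ⟨x', h1, h2⟩ => ⟨x', h2, h1⟩⟩

theorem isPro_of_isClosed {E : Set X} (hE : IsClosed E) : ProCons.IsProConstructible E :=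
  isPro_iff_isInd_compl.2 (isInd_of_isOpen hE.isOpen_compl)

theorem isPro_singleton (y : X) : ProCons.IsProConstructible ({y} : Set X) := by
  refine isPro_iff.2 fun U => ?_
  unfold ConsClosedOn
  by_cases hy : y ∈ U.1
  · have : (Subtype.val ⁻¹' {y} : Set ↥U.1) = {⟨y, hy⟩} := by ext z; simp [Subtype.ext_iff]
    rw [this]
    exact SpecSp.isClosed_singleton_cons _
  · have : (Subtype.val ⁻¹' {y} : Set ↥U.1) = ∅ := by
      ext z; simp only [mem_preimage, mem_singleton_iff, mem_empty_iff_false, iff_false]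
      exact fun h => hy (h ▸ z.2)
    rw [this]
    exact @isClosed_empty _ (constructibleTopology ↥U.1)

/-- A locally closed retrocompact subset is pro-constructible. -/
theorem isPro_of_isLocallyClosed {E : Set X} (hE : IsLocallyClosed E) (hr : IsRetrocompact E) :
    ProCons.IsProConstructible E := by
  obtain ⟨O, C, hO, hC, rfl⟩ := hE
  refine isPro_iff.2 fun U => ?_
  obtain ⟨t, ht, htW, hcov⟩ := exists_finite_affine_cover (hr U.2.isCompact U.1.isOpen) (hO.inter U.1.isOpen)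
    (fun x hx => ⟨hx.1.1, hx.2⟩)
  have e : (Subtype.val ⁻¹' (O ∩ C) : Set ↥U.1) = (⋃ V ∈ t, (Subtype.val ⁻¹' (V.1 : Set X))) ∩ Subtype.val ⁻¹' C := by
    ext z
    refine ⟨fun hz => ⟨?_, hz.2⟩, fun hz => ⟨?_, hz.2⟩⟩
    · obtain ⟨V, hV, hzV⟩ := mem_iUnion₂.1 (hcov ⟨hz, z.2⟩)
      exact mem_iUnion₂.2 ⟨V, hV, hzV⟩
    · obtain ⟨V, hV, hzV⟩ := mem_iUnion₂.1 hz.1
      exact (htW V hV hzV).1
  unfold ConsClosedOn
  rw [e]
  refine @IsClosed.inter _ _ _ (constructibleTopology ↥U.1) ?_ ?_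
  · refine @Set.Finite.isClosed_biUnion _ _ (constructibleTopology ↥U.1) _ _ ht fun V hV => ?_
    refine (SpecSp.isClopen_cons (V.1.isOpen.preimage continuous_subtype_val) ?_).1
    refine U.1.isOpen.isOpenEmbedding_subtypeVal.isInducing.isCompact_iff.2 ?_
    have e2 : Subtype.val '' (Subtype.val ⁻¹' (V.1 : Set X) : Set ↥U.1) = (V.1 : Set X) := by
      ext x
      exact ⟨fun ⟨z, hz, hzx⟩ => hzx ▸ hz, fun hx => ⟨⟨x, (htW V hV hx).2⟩, hx, rfl⟩⟩
    exact e2.symm ▸ V.2.isCompact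
  · exact (isPro_iff.1 (isPro_of_isClosed hC) U)

/-- A pro-constructible subset is retrocompact. -/
theorem isRetrocompact_of_isPro {E : Set X} (hE : ProCons.IsProConstructible E) : IsRetrocompact E := by
  intro W hWc hWo
  obtain ⟨t, ht, htW, hcov⟩ := exists_finite_affine_cover hWc hWo subset_rfl
  have e : E ∩ W = ⋃ V ∈ t, Subtype.val '' (Subtype.val ⁻¹' E : Set ↥V.1) := by
    ext x
    simp only [mem_iUnion, mem_image, mem_preimage, mem_inter_iff]
    refine ⟨fun ⟨hxE, hxW⟩ => ?_, fun ⟨V, hV, z, hz, hzx⟩ => hzx ▸ ⟨hz, htW V hV z.2⟩⟩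
    obtain ⟨V, hV, hxV⟩ := mem_iUnion₂.1 (hcov hxW)
    exact ⟨V, hV, ⟨x, hxV⟩, hxE, rfl⟩
  rw [e]
  refine ht.isCompact_biUnion fun V _ => IsCompact.image ?_ continuous_subtype_val
  have hc := SpecSp.isCompact_cons (isPro_iff.1 hE V)
  have hid : @Continuous _ _ (constructibleTopology ↥V.1) instTopologicalSpaceSubtype (id : ↥V.1 → ↥V.1) :=
    @Continuous.mk _ _ (constructibleTopology ↥V.1) instTopologicalSpaceSubtype _ fun s hs => SpecSp.isOpen_cons hs
  simpa using @IsCompact.image ↥V.1 ↥V.1 (constructibleTopology ↥V.1) instTopologicalSpaceSubtype _ _ hc hid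

theorem isSSubtrusive_iff_image_closure (f : X ⟶ Y) :
    Subtr.IsSSubtrusive f ↔ ∀ Z : Set Y, ProCons.IsProConstructible Z → f '' closure (f ⁻¹' Z) = closure Z := by
  refine ⟨fun h Z hZ => subset_antisymm ?_ fun y hy => ?_, fun h y y' hy => ?_⟩
  · rintro _ ⟨x, hx, rfl⟩
    exact closure_mono (image_preimage_subset _ _) (image_closure_subset_closure_image f.continuous ⟨x, hx, rfl⟩)
  · obtain ⟨y', hy', hsp⟩ := (mem_closure_pro hZ y).1 hy
    obtain ⟨x, x', hx, h1, h2⟩ := h hsp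
    exact ⟨x, hx.mem_closed isClosed_closure (subset_closure (show f x' ∈ Z from h2.symm ▸ hy')), h1⟩
  · have : y ∈ f '' closure (f ⁻¹' {y'}) := by
      rw [h _ (isPro_singleton y')]
      exact hy.mem_closure
    obtain ⟨x, hx, rfl⟩ := this
    obtain ⟨x', hx', hsp⟩ := (mem_closure_pro (isPro_preimage f (isPro_singleton y')) x).1 hx
    exact ⟨x, x', hsp, rfl, hx'⟩

/-- Locally closed retrocompact subsets descend along quasi-compact universally S-subtrusive morphisms. -/
theorem isLocallyClosed_isRetrocompact_iff (f : X ⟶ Y) [QuasiCompact f] (hf : Subtr.UnivSSubtrusive f) (E : Set Y) :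
    (IsLocallyClosed E ∧ IsRetrocompact E) ↔ (IsLocallyClosed (f ⁻¹' E) ∧ IsRetrocompact (f ⁻¹' E)) := by
  constructor
  · rintro ⟨h1, h2⟩
    exact ⟨h1.preimage f.continuous, isRetrocompact_of_isPro (isPro_preimage f (isPro_of_isLocallyClosed h1 h2))⟩
  · rintro ⟨h1, h2⟩
    have hS : Subtr.IsSSubtrusive f := hf (𝟙 _) (𝟙 _) f (IsPullback.of_vert_isIso ⟨by simp⟩)
    have hsurj : Function.Surjective f.base := fun y => let ⟨x, _, _, hx, _⟩ := hS (specializes_refl y); ⟨x, hx⟩
    have hpre := isPro_of_isLocallyClosed h1 h2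
    have hE : ProCons.IsProConstructible E := by
      have := isPro_image f hpre
      rwa [Set.image_preimage_eq _ hsurj] at this
    refine ⟨?_, isRetrocompact_of_isPro hE⟩
    rw [isLocallyClosed_iff_isOpen_coborder]
    have hC : IsClosed (closure (f ⁻¹' E) \ f ⁻¹' E) :=
      isOpen_compl_iff.1 (by
        have := h1.isOpen_coborder
        rw [coborder] at this
        exact this)
    have hF : f.base '' (closure (f ⁻¹' E) \ f ⁻¹' E) = closure E \ E := by
      refine subset_antisymm ?_ fun y hy => ?_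
      · rintro _ ⟨x, hx, rfl⟩
        exact ⟨closure_mono (image_preimage_subset _ _) (image_closure_subset_closure_image f.continuous ⟨x, hx.1, rfl⟩), hx.2⟩
      · obtain ⟨y', hy', hsp⟩ := (mem_closure_pro hE y).1 hy.1
        obtain ⟨x, x', hx, h1', h2'⟩ := hS hsp
        exact ⟨x, ⟨hx.mem_closed isClosed_closure (subset_closure (show f x' ∈ E from h2'.symm ▸ hy')),
          fun h => hy.2 (h1' ▸ h)⟩, h1'⟩
    have hFpro : ProCons.IsProConstructible (closure E \ E) := hF ▸ isPro_image f (isPro_of_isClosed hC)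
    rw [coborder]
    refine IsClosed.isOpen_compl (self := ?_)
    refine closure_subset_iff_isClosed.1 fun y hy => ?_
    obtain ⟨y', hy', hsp⟩ := (mem_closure_pro hFpro y).1 hy
    refine ⟨hsp.mem_closed isClosed_closure hy'.1, fun hyE => ?_⟩
    obtain ⟨y'', hy'', hsp'⟩ := (mem_closure_pro hE y').1 hy'.1
    obtain ⟨x, hx, hxy⟩ := Groth.Agent.S19530.result f hf 2 ![y'', y', y] (by
      intro i j hij
      fin_cases i <;> fin_cases j <;> simp_all [specializes_refl, hsp'.trans hsp])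
    obtain ⟨O, C, hO, hC', he⟩ := h1
    have m0 : x 0 ∈ O ∩ C := he ▸ (show f (x 0) ∈ E by rw [hxy]; exact hy'')
    have m2 : x 2 ∈ O ∩ C := he ▸ (show f (x 2) ∈ E by rw [hxy]; exact hyE)
    have m1 : x 1 ∈ f ⁻¹' E := he ▸ ⟨(hx 1 2 (by decide)).mem_open hO m2.1, (hx 0 1 (by decide)).mem_closed hC' m0.2⟩
    refine hy'.2 ?_
    have := hxy 1
    rw [mem_preimage, this] at m1
    exact m1

/-- Locally closed subsets descend along universally S-subtrusive morphisms of finite presentation. -/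
theorem isLocallyClosed_iff_of_fp (f : X ⟶ Y) [LocallyOfFinitePresentation f] [QuasiCompact f]
    (hf : Subtr.UnivSSubtrusive f) (E : Set Y) : IsLocallyClosed E ↔ IsLocallyClosed (f ⁻¹' E) := by
  refine ⟨fun h => h.preimage f.continuous, fun h1 => ?_⟩
  have hS : Subtr.IsSSubtrusive f := hf (𝟙 _) (𝟙 _) f (IsPullback.of_vert_isIso ⟨by simp⟩)
  have hcob := h1.isOpen_coborder
  obtain ⟨O, C, hO, hC, he⟩ := h1
  have conv : ∀ {p b y : Y}, p ⤳ b → b ⤳ y → p ∈ E → y ∈ E → b ∈ E := by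
    intro p b y hpb hby hp hy
    obtain ⟨x, hx, hxy⟩ := Groth.Agent.S19530.result f hf 2 ![p, b, y] (by
      intro i j hij
      fin_cases i <;> fin_cases j <;> simp_all [specializes_refl, hpb.trans hby])
    have m0 : x 0 ∈ O ∩ C := he ▸ (show f (x 0) ∈ E by rw [hxy]; exact hp)
    have m2 : x 2 ∈ O ∩ C := he ▸ (show f (x 2) ∈ E by rw [hxy]; exact hy)
    have m1 : x 1 ∈ f ⁻¹' E := he ▸ ⟨(hx 1 2 (by decide)).mem_open hO m2.1, (hx 0 1 (by decide)).mem_closed hC m0.2⟩
    rw [mem_preimage, hxy 1] at m1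
    exact m1
  refine ((isLocallyClosed_tfae E).out 0 3).2 fun y hy => ?_
  obtain ⟨W, hyW, -⟩ := exists_affine_mem_subset (X := Y) isOpen_univ (mem_univ y)
  have hK : IsCompact (f ⁻¹' {y} : Set X) := by
    have := isRetrocompact_of_isPro (isPro_preimage f (isPro_singleton y)) (f.isCompact_preimage W.2.isCompact) (f ⁻¹ᵁ W.1).isOpen
    have e : f ⁻¹' {y} ⊆ ((f ⁻¹ᵁ W.1 : X.Opens) : Set X) := fun x hx => by
      show f x ∈ W.1
      rw [show f x = y from hx]; exact hyW
    rwa [inter_eq_left.2 e] at this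
  obtain ⟨t, ht, htO, hcov⟩ := exists_finite_affine_cover hK (hO.inter (f ⁻¹ᵁ W.1).isOpen)
    (fun x hx => by
      have hxy : f x = y := hx
      refine ⟨(he ▸ (show x ∈ f ⁻¹' E by rw [mem_preimage, hxy]; exact hy) : x ∈ O ∩ C).1, ?_⟩
      show f x ∈ W.1
      rw [hxy]; exact hyW)
  have hVW : ∀ V : t, V.1.1 ≤ f ⁻¹ᵁ W.1 := fun V x hx => (htO V.1 V.2 hx).2
  haveI := ht.to_subtype
  let G : Set ↥W.1 := ⋃ V : t, rmap f V.1 W (hVW V) '' univ
  let P : Set ↥W.1 := ⋃ V : t, rmap f V.1 W (hVW V) '' (Subtype.val ⁻¹' C)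
  have hP : IsClosed[constructibleTopology ↥W.1] P :=
    @isClosed_iUnion_of_finite _ _ (constructibleTopology ↥W.1) _ _ fun V =>
      SpecSp.isClosed_cons_image (isSpectralMap_rmap f V.1 W _) (isPro_iff.1 (isPro_of_isClosed hC) V.1)
  have hG : IsOpen[constructibleTopology ↥W.1] G :=
    @isOpen_iUnion _ _ (constructibleTopology ↥W.1) _ fun V =>
      (SpecSp.isClopen_cons_of_isConstructible (isConstructible_image_rmap f V.1 W _ IsConstructible.univ)).2
  have hPE : ∀ z ∈ G, z.1 ∈ E ↔ z ∈ P := by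
    intro z hz
    constructor
    · intro hzE
      obtain ⟨V, u, -, rfl⟩ := mem_iUnion.1 hz
      exact mem_iUnion.2 ⟨V, u, (he ▸ (show u.1 ∈ f ⁻¹' E from hzE) : u.1 ∈ O ∩ C).2, rfl⟩
    · intro hzP
      obtain ⟨V, u, hu, rfl⟩ := mem_iUnion.1 hzP
      exact (he.symm ▸ (⟨(htO V.1 V.2 u.2).1, hu⟩ : u.1 ∈ O ∩ C) : u.1 ∈ f ⁻¹' E)
  have hN : (⟨y, hyW⟩ : ↥W.1) ∈ interior G := by
    by_contra hni
    rw [← mem_compl_iff, ← closure_compl] at hni
    obtain ⟨e, heG, hey⟩ := SpecSp.exists_specializes_of_mem_closure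
      (@IsOpen.isClosed_compl _ (constructibleTopology ↥W.1) _ hG) hni
    obtain ⟨v, w, hwv, hv, hw⟩ := hS (hey.map continuous_subtype_val)
    obtain ⟨V, hV, hvV⟩ := mem_iUnion₂.1 (hcov (show v ∈ f ⁻¹' {y} from hv))
    exact heG (mem_iUnion.2 ⟨⟨V, hV⟩, ⟨w, hwv.mem_open V.1.isOpen hvV⟩, mem_univ _, Subtype.ext hw⟩)
  let N : Set Y := Subtype.val '' interior G
  have hNo : IsOpen N := W.1.isOpen.isOpenMap_subtype_val _ isOpen_interior
  have hspec : ∀ b ∈ N, b ∈ closure E → ∃ p ∈ E, p ⤳ b := by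
    rintro _ ⟨b, hb, rfl⟩ hbE
    have : b ∈ closure (interior G ∩ P) := by
      refine closure_mono (show interior G ∩ Subtype.val ⁻¹' E ⊆ interior G ∩ P from
        fun z hz => ⟨hz.1, (hPE z (interior_subset hz.1)).1 hz.2⟩) ?_
      exact isOpen_interior.inter_closure
        ⟨hb, (W.1.isOpen.isOpenMap_subtype_val.preimage_closure_eq_closure_preimage continuous_subtype_val E).le hbE⟩
    obtain ⟨e, heP, heb⟩ := SpecSp.exists_specializes_of_mem_closure hP (closure_mono inter_subset_right this)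
    refine ⟨e.1, (hPE e ?_).2 heP, heb.map continuous_subtype_val⟩
    exact interior_subset (heb.mem_open isOpen_interior hb)
  let D : Set X := closure (f ⁻¹' E) \ f ⁻¹' E
  have hD : IsClosed D := isOpen_compl_iff.1 (by rw [coborder] at hcob; exact hcob)
  have hB : ProCons.IsProConstructible (f.base '' D) := isPro_image f (isPro_of_isClosed hD)
  have hyB : y ∉ closure (f.base '' D) := by
    intro hyB
    obtain ⟨b, hb, hby⟩ := (mem_closure_pro hB y).1 hyB
    obtain ⟨x, hx, rfl⟩ := hb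
    have hxE : f x ∈ closure E :=
      closure_mono (image_preimage_subset _ _) (image_closure_subset_closure_image f.continuous ⟨x, hx.1, rfl⟩)
    obtain ⟨p, hp, hpb⟩ := hspec _ (hby.mem_open hNo ⟨_, hN, rfl⟩) hxE
    exact hx.2 (conv hpb hby hp hy)
  refine ⟨N ∩ (closure (f.base '' D))ᶜ, ⟨⟨_, hN, rfl⟩, hyB⟩, hNo.inter isClosed_closure.isOpen_compl, ?_⟩
  rintro b ⟨⟨hbN, hbB⟩, hbE⟩
  by_contra hb
  obtain ⟨p, hp, hpb⟩ := hspec b hbN hbE
  obtain ⟨v, w, hwv, hv, hw⟩ := hS hpb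
  exact hbB (subset_closure ⟨v, ⟨hwv.mem_closed isClosed_closure (subset_closure (show f w ∈ E from hw.symm ▸ hp)),
    fun h => hb (hv ▸ h)⟩, hv⟩)

end Groth.Agent.SubtrVal
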