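import Groth.Agent.SubtrVal.Descend
import Groth.Agent.SectExt.Basic
import Groth.Prelude.Def_SGA1
import Groth.Agent.SubtrVal.LocClosed
import Mathlib.AlgebraicGeometry.Morphisms.FiniteType
import Mathlib.AlgebraicGeometry.AffineSpace
import Mathlib.RingTheory.PowerSeries.Inverse

/-!
# Universally S-subtrusive morphisms over a Noetherian base
-/

set_option autoImplicit false
set_option linter.style.haveILetI false
set_option backward.isDefEq.respectTransparency false
set_option backward.isDefEq.respectTransparency.types false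

universe u

open CategoryTheory CategoryTheory.Limits AlgebraicGeometry

namespace Groth.Agent.SubtrVal

variable {X Y : Scheme.{u}}

lemma fractionRing_closedPoint (A : Type u) [CommRing A] [IsDomain A] :
    Spec.map (CommRingCat.ofHom (algebraMap A (FractionRing A))) (IsLocalRing.closedPoint (FractionRing A)) = gen A := by
  refine PrimeSpectrum.ext ?_
  show (IsLocalRing.maximalIdeal (FractionRing A)).comap (algebraMap A (FractionRing A)) = ⊥
  rw [IsLocalRing.maximalIdeal_eq_bot, ← RingHom.ker_eq_comap_bot]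
  exact (RingHom.injective_iff_ker_eq_bot _).1 (IsFractionRing.injective A (FractionRing A))

lemma eq_gen_or_closed {D : Type u} [CommRing D] [IsDomain D] [IsDiscreteValuationRing D] (y : Spec (CommRingCat.of D)) :
    y = gen D ∨ y = IsLocalRing.closedPoint D := by
  haveI := y.isPrime
  by_cases h : y.asIdeal = ⊥
  · exact Or.inl (PrimeSpectrum.ext h)
  · exact Or.inr (PrimeSpectrum.ext (IsLocalRing.eq_maximalIdeal (y.isPrime.isMaximal h)))

/-- A submersive morphism to the spectrum of a discrete valuation ring lifts specialisations. -/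
theorem isSSubtrusive_of_isQuotientMap_dvr {D : Type u} [CommRing D] [IsDomain D] [IsDiscreteValuationRing D]
    (f : X ⟶ Spec (CommRingCat.of D)) (hq : Topology.IsQuotientMap f) : Subtr.IsSSubtrusive f := by
  refine ((tfae f).out 3 1).1 ?_
  by_contra hno
  have hopen : IsOpen (f ⁻¹' ({IsLocalRing.closedPoint D} : Set (Spec (CommRingCat.of D)))) := by
    have : f ⁻¹' ({IsLocalRing.closedPoint D} : Set (Spec (CommRingCat.of D))) = (closure (f ⁻¹' {gen D}))ᶜ := by
      ext x
      refine ⟨fun hx hxc => hno ?_, fun hx => ?_⟩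
      · obtain ⟨x', hx', hfx'⟩ := exists_generization f x hxc
        exact ⟨x, x', hx', hx, hfx'⟩
      · exact (eq_gen_or_closed (f x)).resolve_left fun h => hx (subset_closure h)
    rw [this]; exact isClosed_closure.isOpen_compl
  have : (gen D : Spec (CommRingCat.of D)) ∈ ({IsLocalRing.closedPoint D} : Set (Spec (CommRingCat.of D))) :=
    (gen_specializes _).mem_open (hq.isOpen_preimage.1 hopen) rfl
  exact IsDiscreteValuationRing.not_a_field D (congrArg PrimeSpectrum.asIdeal this).symm

lemma exists_preimage_of_isPullback {P A B S : Scheme.{u}} {fst : P ⟶ A} {snd : P ⟶ B} {f : A ⟶ S} {g : B ⟶ S}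
    (h : IsPullback fst snd f g) (a : A) (b : B) (e : f a = g b) : ∃ z : P, fst z = a ∧ snd z = b := by
  obtain ⟨z, h1, h2⟩ := Scheme.Pullback.exists_preimage_pullback a b e
  refine ⟨h.isoPullback.inv z, ?_, ?_⟩
  · rw [← Scheme.Hom.comp_apply, h.isoPullback_inv_fst, h1]
  · rw [← Scheme.Hom.comp_apply, h.isoPullback_inv_snd, h2]

/-- The image of a closed set under a quasi-compact morphism is closed once it is stable under specialization. -/
theorem isClosed_image_of_stable (f : X ⟶ Y) [QuasiCompact f] {Z : Set X} (hZ : IsClosed Z)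
    (h : StableUnderSpecialization (f.base '' Z)) : IsClosed (f.base '' Z) := by
  refine closure_subset_iff_isClosed.1 fun y hy => ?_
  obtain ⟨y', hy', hsp⟩ := (mem_closure_pro (ProConsLib.isPro_image f (isPro_of_isClosed hZ)) y).1 hy
  exact h hsp hy'

/-- A quasi-compact S-subtrusive morphism is submersive. -/
theorem isQuotientMap_of_isSSubtrusive (f : X ⟶ Y) [QuasiCompact f] (h : Subtr.IsSSubtrusive f) :
    Topology.IsQuotientMap f := by
  have hsurj : Function.Surjective f.base := fun y => let ⟨x, _, _, hx, _⟩ := h (specializes_refl y); ⟨x, hx⟩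
  refine (Topology.isQuotientMap_iff _).2
    ⟨Topology.isCoinducing_iff.2 fun S => ⟨fun hS => ?_, fun hS => hS.preimage f.continuous⟩, hsurj⟩
  rw [← isClosed_compl_iff, ← Set.image_preimage_eq (Sᶜ) hsurj]
  refine isClosed_image_of_stable f hS.isClosed_compl ?_
  rw [Set.image_preimage_eq _ hsurj]
  intro y' y hyy hy' hy
  obtain ⟨x, x', hx, h1, h2⟩ := h hyy
  refine hy' ?_
  have := hx.mem_open hS (show x ∈ f ⁻¹' S by rw [Set.mem_preimage, h1]; exact hy)
  rwa [Set.mem_preimage, h2] at this

/-- Universally S-subtrusive quasi-compact morphisms are universally submersive. -/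
theorem univSubmersive_of_univSSubtrusive (f : X ⟶ Y) [QuasiCompact f] (h : Subtr.UnivSSubtrusive f) :
    SGA1.UnivSubmersive f := by
  intro X' Y' i₁ i₂ f' hpb
  haveI : QuasiCompact f' := MorphismProperty.of_isPullback (P := @QuasiCompact) hpb.flip ‹QuasiCompact f›
  exact isQuotientMap_of_isSSubtrusive f' (h i₁ i₂ f' hpb)

/-- To be universally S-subtrusive it is enough to lift pairs over algebras of finite type over affine opens. -/
theorem univSSubtrusive_of_finiteType (f : X ⟶ Y) [QuasiCompact f]
    (h : ∀ (W : Y.Opens) (hW : IsAffineOpen W) (R : Type u) [CommRing R] [IsDomain R] (φ : Γ(Y, W) ⟶ CommRingCat.of R)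
      (p : Spec (CommRingCat.of R)), φ.hom.FiniteType → HasPair f (Spec.map φ ≫ hW.fromSpec) (gen R) p) :
    Subtr.UnivSSubtrusive f := by
  rw [univ_iff]
  intro V _ _ _ g
  rw [isSSubtrusive_iff_hasPair]
  by_contra hno
  obtain ⟨W, hW, R, _, _, φ, p, hφ, hp⟩ := descend f g hno
  exact hp (h W hW R φ p hφ)

/-- A universally submersive quasi-compact morphism over a locally Noetherian scheme is universally S-subtrusive. -/
theorem univSSubtrusive_of_univSubmersive [IsLocallyNoetherian Y] (f : X ⟶ Y) [QuasiCompact f]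
    (h : SGA1.UnivSubmersive f) : Subtr.UnivSSubtrusive f := by
  refine univSSubtrusive_of_finiteType f fun W hW R _ _ φ p hφ => ?_
  set gR := Spec.map φ ≫ hW.fromSpec
  have hq : ∀ {T : Scheme.{u}} (g : T ⟶ Y), Topology.IsQuotientMap (pullback.snd f g) :=
    fun g => h _ _ _ (IsPullback.of_hasPullback f g).flip
  by_cases hne : (gen R : Spec (CommRingCat.of R)) = p
  · obtain ⟨x, hx⟩ := (hq gR).surjective p
    exact ⟨x, x, specializes_refl x, hx, hx.trans hne.symm⟩
  · haveI : IsNoetherianRing Γ(Y, W) := IsLocallyNoetherian.component_noetherian ⟨W, hW⟩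
    algebraize [φ.hom]
    haveI : IsNoetherianRing R := Algebra.FiniteType.isNoetherianRing Γ(Y, W) R
    obtain ⟨A, _, _, _, u, g', hu, hg', ht⟩ := Groth.Agent.SectExt.exists_dvr_of_specializes
      (𝟙 (Spec (CommRingCat.of R))) (gen R) p (gen_specializes p) (fun e => hne e.symm)
    have hgen : u (gen A) = gen R := by
      rw [Category.comp_id] at hg'
      rw [← fractionRing_closedPoint A, ← Scheme.Hom.comp_apply, ← hg', ht]
    have h4 : HasPair f (u ≫ gR) (gen A) (IsLocalRing.closedPoint A) := by
      obtain ⟨x, x', hx, h1, h2⟩ := isSSubtrusive_of_isQuotientMap_dvr _ (hq (u ≫ gR)) (gen_specializes (IsLocalRing.closedPoint A))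
      exact ⟨x, x', hx, h1, h2⟩
    have := h4.map f u rfl
    rwa [hu, hgen] at this

/-- The discrete valuation ring criterion, in one direction. -/
theorem univSSubtrusive_of_dvr_lift [IsLocallyNoetherian Y] (f : X ⟶ Y) [QuasiCompact f]
    (h : ∀ (D : Type u) [CommRing D] [IsDomain D] [IsDiscreteValuationRing D] (g : Spec (CommRingCat.of D) ⟶ Y),
        ∃ (D' : Type u) (_ : CommRing D') (_ : IsDomain D') (_ : IsDiscreteValuationRing D')
          (a : Spec (CommRingCat.of D') ⟶ X) (b : Spec (CommRingCat.of D') ⟶ Spec (CommRingCat.of D)),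
          Surjective b ∧ a ≫ f = b ≫ g) : Subtr.UnivSSubtrusive f := by
  refine univSSubtrusive_of_finiteType f fun W hW R _ _ φ p hφ => ?_
  set gR := Spec.map φ ≫ hW.fromSpec
  have key : ∀ (D : Type u) [CommRing D] [IsDomain D] [IsDiscreteValuationRing D] (u : Spec (CommRingCat.of D) ⟶ Spec (CommRingCat.of R)),
      HasPair f gR (u (gen D)) (u (IsLocalRing.closedPoint D)) := by
    intro D _ _ _ u
    obtain ⟨D', _, _, _, a, b, hb, hab⟩ := h D (u ≫ gR)
    refine HasPair.map f u rfl ?_
    obtain ⟨w, hw, hsp, hgen⟩ := pair_of_surjective b hb.surj (IsLocalRing.closedPoint D)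
    let l : Spec (CommRingCat.of D') ⟶ pullback f (u ≫ gR) := pullback.lift a b hab
    refine ⟨l w, l (gen D'), hsp.map l.continuous, ?_, ?_⟩
    · rw [← Scheme.Hom.comp_apply, pullback.lift_snd, hw]
    · rw [← Scheme.Hom.comp_apply, pullback.lift_snd, hgen]
  by_cases hne : (gen R : Spec (CommRingCat.of R)) = p
  · let K := FractionRing R
    let u : Spec (CommRingCat.of (PowerSeries K)) ⟶ Spec (CommRingCat.of R) :=
      Spec.map (CommRingCat.ofHom ((PowerSeries.C).comp (algebraMap R K)))
    have hi : Function.Injective ((PowerSeries.C).comp (algebraMap R K)) :=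
      PowerSeries.C_injective.comp (IsFractionRing.injective R K)
    have hg : u (gen (PowerSeries K)) = gen R := PrimeSpectrum.ext
      ((RingHom.ker_eq_comap_bot _).symm.trans ((RingHom.injective_iff_ker_eq_bot _).1 hi))
    obtain ⟨x, x', hx, h1, h2⟩ := key (PowerSeries K) u
    exact ⟨x', x', specializes_refl _, h2.trans (hg.trans hne), h2.trans hg⟩
  · haveI : IsNoetherianRing Γ(Y, W) := IsLocallyNoetherian.component_noetherian ⟨W, hW⟩
    algebraize [φ.hom]
    haveI : IsNoetherianRing R := Algebra.FiniteType.isNoetherianRing Γ(Y, W) R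
    obtain ⟨A, _, _, _, u, g', hu, hg', ht⟩ := Groth.Agent.SectExt.exists_dvr_of_specializes
      (𝟙 (Spec (CommRingCat.of R))) (gen R) p (gen_specializes p) (fun e => hne e.symm)
    rw [Category.comp_id] at hg'
    have := key A u
    rwa [hu, ← fractionRing_closedPoint A, ← Scheme.Hom.comp_apply, ← hg', ht] at this

/-- The discrete valuation ring criterion, in the other direction. -/
theorem exists_dvr_lift (f : X ⟶ Y) [LocallyOfFiniteType f] (h : Subtr.UnivSSubtrusive f)
    (D : Type u) [CommRing D] [IsDomain D] [IsDiscreteValuationRing D] (g : Spec (CommRingCat.of D) ⟶ Y) :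
    ∃ (D' : Type u) (_ : CommRing D') (_ : IsDomain D') (_ : IsDiscreteValuationRing D')
      (a : Spec (CommRingCat.of D') ⟶ X) (b : Spec (CommRingCat.of D') ⟶ Spec (CommRingCat.of D)),
      Surjective b ∧ a ≫ f = b ≫ g := by
  obtain ⟨x, x', hx, h1, h2⟩ := (isSSubtrusive_iff_hasPair f g).1 ((univ_iff f).1 h D g)
  haveI : IsLocallyNoetherian (pullback f g) := LocallyOfFiniteType.isLocallyNoetherian (pullback.snd f g)
  have hne : x ≠ x' := fun e => by
    have e' := h1.symm.trans ((congrArg (pullback.snd f g) e).trans h2)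
    exact IsDiscreteValuationRing.not_a_field D (congrArg PrimeSpectrum.asIdeal e')
  obtain ⟨A, _, _, _, u, g', hu, hg', ht⟩ := Groth.Agent.SectExt.exists_dvr_of_specializes (𝟙 (pullback f g)) x' x hx hne
  rw [Category.comp_id] at hg'
  refine ⟨A, inferInstance, inferInstance, inferInstance, u ≫ pullback.fst f g, u ≫ pullback.snd f g, ⟨fun y => ?_⟩,
    by rw [Category.assoc, Category.assoc, pullback.condition]⟩
  rcases eq_gen_or_closed y with rfl | rfl
  · refine ⟨gen A, ?_⟩
    rw [Scheme.Hom.comp_apply, ← fractionRing_closedPoint A, ← Scheme.Hom.comp_apply u, ← Scheme.Hom.comp_apply] 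
    rw [← Category.assoc, ← hg', Scheme.Hom.comp_apply, ht, h2]
  · exact ⟨IsLocalRing.closedPoint A, by rw [Scheme.Hom.comp_apply, hu, h1]⟩

/-- Universal S-subtrusiveness can be tested on affine spaces. -/
theorem univSSubtrusive_of_affineSpace (f : X ⟶ Y) [QuasiCompact f]
    (h : ∀ n : ℕ, 0 < n → Subtr.IsSSubtrusive (pullback.snd f (AffineSpace (ULift.{u} (Fin n)) Y ↘ Y))) :
    Subtr.UnivSSubtrusive f := by
  refine univSSubtrusive_of_finiteType f fun W hW R _ _ φ p hφ => ?_
  algebraize [φ.hom]
  obtain ⟨n, π, hπ⟩ := Algebra.FiniteType.iff_quotient_mvPolynomial''.1 (inferInstance : Algebra.FiniteType Γ(Y, W) R)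
  let ι := ULift.{u} (Fin (n + 1))
  let v : ι → R := fun i => if hi : (i.down : ℕ) < n then π (MvPolynomial.X ⟨i.down, hi⟩) else 0
  let χ : MvPolynomial ι Γ(Y, W) →ₐ[Γ(Y, W)] R := MvPolynomial.aeval v
  have hχ : Function.Surjective χ := by
    have e : χ.comp (MvPolynomial.rename fun i : Fin n => (⟨i.castSucc⟩ : ι)) = π := by
      ext i; simp [χ, v]
    intro r
    obtain ⟨q, hq⟩ := hπ r
    exact ⟨_, (congrArg (fun a : MvPolynomial (Fin n) Γ(Y, W) →ₐ[Γ(Y, W)] R => a q) e).trans hq⟩
  haveI : IsOpenImmersion (AffineSpace.map ι hW.fromSpec) :=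
    MorphismProperty.of_isPullback (P := @IsOpenImmersion) (AffineSpace.isPullback_map hW.fromSpec).flip inferInstance
  haveI : IsClosedImmersion (Spec.map (CommRingCat.ofHom χ.toRingHom)) := IsClosedImmersion.spec_of_surjective _ hχ
  let j : Spec (CommRingCat.of R) ⟶ AffineSpace ι Y :=
    Spec.map (CommRingCat.ofHom χ.toRingHom) ≫ (AffineSpace.SpecIso ι Γ(Y, W)).inv ≫ AffineSpace.map ι hW.fromSpec
  have hj : j ≫ (AffineSpace ι Y ↘ Y) = Spec.map φ ≫ hW.fromSpec := by
    simp only [j, Category.assoc, AffineSpace.map_over]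
    rw [← Category.assoc (AffineSpace.SpecIso ι Γ(Y, W)).inv, AffineSpace.SpecIso_inv_over, ← Category.assoc, ← Spec.map_comp]
    congr 2
    ext b
    exact χ.commutes b
  set a := AffineSpace ι Y ↘ Y
  obtain ⟨x, x', hx, h1, h2⟩ := h (n + 1) n.succ_pos
    (((gen_specializes p).map j.continuous : j (gen R) ⤳ j p))
  let gR := Spec.map φ ≫ hW.fromSpec
  let l : pullback f gR ⟶ pullback f a := pullback.lift (pullback.fst f gR) (pullback.snd f gR ≫ j)
    (by rw [Category.assoc, hj, pullback.condition])
  have hpb : IsPullback l (pullback.snd f gR) (pullback.snd f a) j := by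
    refine IsPullback.of_right ?_ (by simp [l]) (IsPullback.of_hasPullback f a)
    rw [pullback.lift_fst, hj]
    exact IsPullback.of_hasPullback f gR
  haveI : IsPreimmersion j := inferInstance
  haveI : IsPreimmersion l := MorphismProperty.of_isPullback (P := @IsPreimmersion) hpb.flip inferInstance
  obtain ⟨z, hz, hz2⟩ := exists_preimage_of_isPullback hpb x p h1
  obtain ⟨z', hz', hz2'⟩ := exists_preimage_of_isPullback hpb x' (gen R) h2
  refine ⟨z, z', l.isEmbedding.isInducing.specializes_iff.1 ?_, hz2, hz2'⟩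
  rw [hz, hz']
  exact hx

end Groth.Agent.SubtrVal
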