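import Groth.Prelude.Def_W4c2submetdescSubtr
import Groth.Agent.S19530
import Mathlib.AlgebraicGeometry.Morphisms.Flat
import Mathlib.AlgebraicGeometry.Morphisms.UniversallyOpen
import Mathlib.AlgebraicGeometry.Morphisms.ClosedImmersion
import Mathlib.AlgebraicGeometry.IdealSheaf.Subscheme
import Mathlib.RingTheory.Flat.TorsionFree

/-!
# S-subtrusive morphisms over valuation rings
-/

set_option autoImplicit false
set_option linter.style.haveILetI false
set_option backward.isDefEq.respectTransparency false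
set_option backward.isDefEq.respectTransparency.types false

universe u

open CategoryTheory CategoryTheory.Limits AlgebraicGeometry

namespace Groth.Agent.SubtrVal

variable {V : Type u} [CommRing V] [IsDomain V]

/-- The generic point. -/
abbrev gen (V : Type u) [CommRing V] [IsDomain V] : PrimeSpectrum V := ⟨⊥, Ideal.isPrime_bot⟩

lemma gen_specializes (p : Spec (CommRingCat.of V)) : (gen V : Spec (CommRingCat.of V)) ⤳ p :=
  (PrimeSpectrum.le_iff_specializes (gen V) p).1 (show (⊥ : Ideal V) ≤ _ from bot_le)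

lemma eq_gen (p : Spec (CommRingCat.of V)) (h : p ⤳ (gen V : Spec (CommRingCat.of V))) : p = gen V :=
  (h.antisymm (gen_specializes p)).eq

/-- Lifting a specialisation along a map from the spectrum of a valuation ring. -/
lemma pair_of_surjective {W : Type u} [CommRing W] [IsDomain W] (k : Spec (CommRingCat.of W) ⟶ Spec (CommRingCat.of V))
    (hk : Function.Surjective k) (y : Spec (CommRingCat.of V)) :
    ∃ w : Spec (CommRingCat.of W), k w = y ∧ (gen W : Spec (CommRingCat.of W)) ⤳ w ∧ k (gen W) = gen V := by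
  obtain ⟨w, hw⟩ := hk y
  obtain ⟨w₀, hw₀⟩ := hk (gen V)
  refine ⟨w, hw, gen_specializes w, eq_gen _ ?_⟩
  rw [← hw₀]
  exact (gen_specializes w₀).map k.continuous

/-- From a point in the closure of the generic fibre to a specialisation. -/
lemma exists_generization {X : Scheme.{u}} (f : X ⟶ Spec (CommRingCat.of V)) (x : X)
    (hx : x ∈ closure (f ⁻¹' {(gen V : Spec (CommRingCat.of V))})) :
    ∃ x' : X, x' ⤳ x ∧ f x' = gen V := by
  obtain ⟨U, hU, hxU, -⟩ := exists_isAffineOpen_mem_and_subset (X := X) (x := x) (U := ⊤) trivial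
  obtain ⟨φ, hφ⟩ : ∃ φ : CommRingCat.of V ⟶ Γ(X, U), Spec.map φ = hU.fromSpec ≫ f := ⟨_, Spec.map_preimage _⟩
  obtain ⟨q, hq⟩ : ∃ q : Spec Γ(X, U), hU.fromSpec q = x := ⟨_, hU.fromSpec_primeIdealOf ⟨x, hxU⟩⟩
  have hq' : q ∈ closure {p : Spec Γ(X, U) | PrimeSpectrum.comap φ.hom p = gen V} := by
    have h1 : q ∈ hU.fromSpec ⁻¹' closure (f ⁻¹' {(gen V : Spec (CommRingCat.of V))}) := by
      rw [Set.mem_preimage]
      rw [hq]; exact hx
    rw [hU.fromSpec.isOpenEmbedding.isOpenMap.preimage_closure_eq_closure_preimage hU.fromSpec.continuous] at h1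
    refine closure_mono (fun p hp => ?_) h1
    show Spec.map φ p = gen V
    rw [hφ]
    exact hp
  haveI := q.isPrime
  let M : Submonoid Γ(X, U) :=
    { carrier := {b : Γ(X, U) | ∃ v : V, v ≠ 0 ∧ ∃ s : Γ(X, U), s ∉ q.asIdeal ∧ b = φ.hom v * s}
      one_mem' := ⟨1, one_ne_zero, 1, fun h => q.isPrime.ne_top ((Ideal.eq_top_iff_one _).2 h), by simp⟩
      mul_mem' := by
        rintro _ _ ⟨v, hv, s, hs, rfl⟩ ⟨v', hv', s', hs', rfl⟩
        exact ⟨v * v', mul_ne_zero hv hv', s * s', fun h => (q.isPrime.mem_or_mem h).elim hs hs', by rw [map_mul]; ring⟩ }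
  have hM : Disjoint ((⊥ : Ideal Γ(X, U)) : Set Γ(X, U)) (M : Set Γ(X, U)) := by
    rw [Set.disjoint_left]
    rintro b (rfl : b = 0) ⟨v, hv, s, hs, hb⟩
    refine hs ?_
    have hcl : IsClosed {p : PrimeSpectrum Γ(X, U) | s ∈ p.asIdeal} := by
      convert PrimeSpectrum.isClosed_zeroLocus {s} using 1
      ext p; simp [PrimeSpectrum.mem_zeroLocus]
    refine (closure_minimal (fun p hp => ?_) hcl) hq'
    refine (p.isPrime.mem_or_mem (hb ▸ zero_mem _ : φ.hom v * s ∈ p.asIdeal)).resolve_left fun h => hv ?_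
    have : v ∈ (PrimeSpectrum.comap φ.hom p).asIdeal := h
    rw [hp] at this
    exact this
  obtain ⟨Q, hQp, -, hQM⟩ := Ideal.exists_le_prime_disjoint _ M hM
  let q' : Spec Γ(X, U) := (⟨Q, hQp⟩ : PrimeSpectrum Γ(X, U))
  have hle : Q ≤ q.asIdeal := fun b hb => by_contra fun hbq =>
    Set.disjoint_left.1 hQM hb ⟨1, one_ne_zero, b, hbq, by simp⟩
  refine ⟨hU.fromSpec q', hq ▸ ((PrimeSpectrum.le_iff_specializes q' q).1 hle).map hU.fromSpec.continuous, ?_⟩
  rw [← Scheme.Hom.comp_apply, ← hφ]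
  refine PrimeSpectrum.ext (eq_bot_iff.2 fun v hv => ?_)
  by_contra hv0
  exact Set.disjoint_left.1 hQM (show φ.hom v ∈ Q from hv) ⟨v, hv0, 1, fun h => q.isPrime.ne_top ((Ideal.eq_top_iff_one _).2 h), by simp⟩

/-- A flat closed subscheme through a point of the generic fibre. -/
lemma exists_flat_closed [ValuationRing V] {X : Scheme.{u}} (f : X ⟶ Spec (CommRingCat.of V)) (x' : X) (hx' : f x' = gen V) :
    ∃ (Z : Scheme.{u}) (i : Z ⟶ X), IsClosedImmersion i ∧ Flat (i ≫ f) ∧ closure {x'} ⊆ Set.range i := by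
  let h := X.fromSpecResidueField x'
  haveI : Subsingleton (Spec (X.residueField x')) := inferInstanceAs (Subsingleton (PrimeSpectrum (X.residueField x')))
  haveI : QuasiCompact h := ⟨fun U _ _ => (Set.subsingleton_of_subsingleton).isCompact⟩
  refine ⟨h.image, h.imageι, inferInstance, ?_, ?_⟩
  · obtain ⟨χ, hχ⟩ : ∃ χ : CommRingCat.of V ⟶ X.residueField x', Spec.map χ = h ≫ f := ⟨_, Spec.map_preimage _⟩
    have hχi : Function.Injective χ.hom := by
      rw [RingHom.injective_iff_ker_eq_bot, RingHom.ker_eq_comap_bot]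
      have e : Spec.map χ (IsLocalRing.closedPoint (X.residueField x')) = gen V := by
        rw [hχ, Scheme.Hom.comp_apply]
        exact (congrArg f (Scheme.fromSpecResidueField_apply x' _)).trans hx'
      have e' := congrArg PrimeSpectrum.asIdeal e
      change (IsLocalRing.maximalIdeal (X.residueField x')).comap χ.hom = ⊥ at e'
      rwa [IsLocalRing.maximalIdeal_eq_bot] at e'
    let U' : X.affineOpens → h.image.affineOpens := fun U => ⟨h.imageι ⁻¹ᵁ U, U.2.preimage h.imageι⟩
    have hU' : ⨆ U, (U' U : h.image.Opens) = ⊤ := by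
      rw [← Scheme.Hom.preimage_iSup, iSup_affineOpens_eq_top, Scheme.Hom.preimage_top]
    rw [HasRingHomProperty.iff_of_iSup_eq_top (P := @Flat) U' hU']
    intro U
    let φ := (Scheme.ΓSpecIso (CommRingCat.of V)).inv ≫ (h.imageι ≫ f).appLE ⊤ (U' U).1 le_top
    have hflat : φ.hom.Flat := by
      letI : Algebra V Γ(h.image, (U' U).1) := φ.hom.toAlgebra
      show Module.Flat V Γ(h.image, (U' U).1)
      rw [Module.Flat.flat_iff_torsion_eq_bot_of_isBezout, eq_bot_iff]
      intro b hb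
      obtain ⟨⟨v, hv⟩, hvb⟩ := (Submodule.mem_torsion_iff _).1 hb
      replace hvb : φ.hom v * b = 0 := hvb
      refine h.toImage_app_injective (U := U) ?_
      rw [map_zero]
      have hcomp : φ ≫ h.toImage.app (U' U).1 = χ ≫ (Scheme.ΓSpecIso (X.residueField x')).inv ≫
          (Spec (X.residueField x')).presheaf.map (homOfLE le_top).op := by
        rw [Scheme.ΓSpecIso_inv_naturality_assoc, Category.assoc]
        congr 1
        rw [Scheme.Hom.app_eq_appLE, Scheme.Hom.appLE_comp_appLE, Scheme.Hom.appTop, Scheme.Hom.app_eq_appLE,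
          Scheme.Hom.appLE_map]
        congr 2
        rw [hχ, ← Category.assoc, h.toImage_imageι]
      have hu : IsUnit ((h.toImage.app (U' U).1) (φ.hom v)) := by
        rw [← CommRingCat.comp_apply, hcomp, CommRingCat.comp_apply]
        exact (isUnit_iff_ne_zero.2 fun h0 => nonZeroDivisors.ne_zero hv (hχi (h0.trans (map_zero _).symm))).map _
      refine hu.mul_right_eq_zero.1 ?_
      rw [← map_mul, hvb, map_zero]
    have e : ((h.imageι ≫ f).appLE ⊤ (U' U).1 le_top) = (Scheme.ΓSpecIso (CommRingCat.of V)).hom ≫ φ := by simp [φ]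
    rw [e, CommRingCat.hom_comp]
    exact RingHom.Flat.comp (RingHom.Flat.of_bijective (ConcreteCategory.bijective_of_isIso (Scheme.ΓSpecIso (CommRingCat.of V)).hom)) hflat
  · refine closure_minimal (Set.singleton_subset_iff.2 ?_) h.imageι.isClosedEmbedding.isClosed_range
    refine ⟨h.toImage (IsLocalRing.closedPoint (X.residueField x')), ?_⟩
    rw [← Scheme.Hom.comp_apply, h.toImage_imageι]
    exact Scheme.fromSpecResidueField_apply x' _

lemma univ_of_flat_surjective {X Y : Scheme.{u}} (f : X ⟶ Y) [Flat f] [Surjective f] :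
    Subtr.UnivSSubtrusive f := by
  intro X' Y' i₁ i₂ f' h y y' hy
  haveI : Flat f' := MorphismProperty.of_isPullback (P := @Flat) h.flip inferInstance
  haveI : Surjective f' := MorphismProperty.of_isPullback (P := @Surjective) h.flip inferInstance
  obtain ⟨x, rfl⟩ := f'.surjective y
  obtain ⟨x', hx', rfl⟩ := Flat.generalizingMap f' hy
  exact ⟨x, x', hx', rfl, rfl⟩

lemma univ_of_comp {X Y Z : Scheme.{u}} (i : Z ⟶ X) (f : X ⟶ Y) (h : Subtr.UnivSSubtrusive (i ≫ f)) :
    Subtr.UnivSSubtrusive f := by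
  intro X' Y' i₁ i₂ f' hpb y y' hy
  obtain ⟨z, z', hz, h1, h2⟩ := h (pullback.fst i i₁) i₂ (pullback.snd i i₁ ≫ f')
    ((IsPullback.of_hasPullback i i₁).flip.paste_horiz hpb) hy
  refine ⟨pullback.snd i i₁ z, pullback.snd i i₁ z', hz.map (Scheme.Hom.continuous _), ?_, ?_⟩
  · rw [← Scheme.Hom.comp_apply, h1]
  · rw [← Scheme.Hom.comp_apply, h2]

theorem tfae [ValuationRing V] {X : Scheme.{u}} (f : X ⟶ Spec (CommRingCat.of V)) :
    List.TFAE [
      Subtr.UnivSSubtrusive f,
      Subtr.IsSSubtrusive f,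
      ∀ y : Spec (CommRingCat.of V), ∃ x : X,
        x ∈ closure (f ⁻¹' {(⟨⊥, Ideal.isPrime_bot⟩ : PrimeSpectrum V)}) ∧ f x = y,
      ∃ x x' : X, x' ⤳ x ∧ f x = IsLocalRing.closedPoint V ∧
        f x' = (⟨⊥, Ideal.isPrime_bot⟩ : PrimeSpectrum V),
      ∃ (W : Type u) (_ : CommRing W) (_ : IsDomain W) (_ : ValuationRing W)
        (g : Spec (CommRingCat.of W) ⟶ X), Surjective (g ≫ f),
      ∃ (Z : Scheme.{u}) (i : Z ⟶ X), IsClosedImmersion i ∧ Flat (i ≫ f) ∧ Surjective (i ≫ f)] := by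
  tfae_have 1 → 2 := fun h => h (𝟙 _) (𝟙 _) f (IsPullback.of_vert_isIso ⟨by simp⟩)
  tfae_have 2 → 3 := by
    intro h y
    obtain ⟨x, x', hx, h1, h2⟩ := h (gen_specializes y)
    exact ⟨x, hx.mem_closed isClosed_closure (subset_closure h2), h1⟩
  tfae_have 3 → 4 := by
    intro h
    obtain ⟨x, hx, hfx⟩ := h (IsLocalRing.closedPoint V)
    obtain ⟨x', hx', hfx'⟩ := exists_generization f x hx
    exact ⟨x, x', hx', hfx, hfx'⟩
  tfae_have 4 → 5 := by
    rintro ⟨x, x', hx, hfx, hfx'⟩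
    obtain ⟨A, _, _, _, g, hgc, hgg⟩ := Groth.Agent.S19530.exists_valuation_pair hx
    refine ⟨A, inferInstance, inferInstance, inferInstance, g, ⟨?_⟩⟩
    obtain ⟨ψ, hψ⟩ : ∃ ψ : CommRingCat.of V ⟶ CommRingCat.of A, Spec.map ψ = g ≫ f := ⟨_, Spec.map_preimage _⟩
    have hc : PrimeSpectrum.comap ψ.hom (IsLocalRing.closedPoint A) = IsLocalRing.closedPoint V := by
      show Spec.map ψ _ = _
      rw [hψ, Scheme.Hom.comp_apply, hgc, hfx]
    have hg : PrimeSpectrum.comap ψ.hom (gen A) = gen V := by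
      show Spec.map ψ _ = _
      rw [hψ, Scheme.Hom.comp_apply, hgg, hfx']
    haveI : IsLocalHom ψ.hom := ⟨fun a ha => by
      by_contra hna
      have : a ∈ (PrimeSpectrum.comap ψ.hom (IsLocalRing.closedPoint A)).asIdeal := hc.symm ▸ hna
      exact this ha⟩
    have hinj : Function.Injective ψ.hom := (RingHom.injective_iff_ker_eq_bot _).2
      ((RingHom.ker_eq_comap_bot _).trans (congrArg PrimeSpectrum.asIdeal hg))
    rw [← hψ]
    exact Groth.Agent.S19530.comap_surjective ψ.hom hinj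
  tfae_have 5 → 6 := by
    rintro ⟨W, _, _, _, g, hg⟩
    obtain ⟨-, -, -, hgen⟩ := pair_of_surjective (g ≫ f) hg.surj (gen V)
    obtain ⟨Z, i, hi, hfl, hcl⟩ := exists_flat_closed f (g (gen W)) hgen
    refine ⟨Z, i, hi, hfl, ⟨fun y => ?_⟩⟩
    obtain ⟨w, hw⟩ := hg.surj y
    obtain ⟨z, hz⟩ := hcl (((gen_specializes w).map g.continuous).mem_closure)
    exact ⟨z, by rw [Scheme.Hom.comp_apply, hz]; exact hw⟩
  tfae_have 6 → 1 := by
    rintro ⟨Z, i, _, _, _⟩
    exact univ_of_comp i f (univ_of_flat_surjective (i ≫ f))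
  tfae_finish

theorem univ_iff {X Y : Scheme.{u}} (f : X ⟶ Y) :
    Subtr.UnivSSubtrusive f ↔
      ∀ (V : Type u) [CommRing V] [IsDomain V] [ValuationRing V] (g : Spec (CommRingCat.of V) ⟶ Y),
        Subtr.IsSSubtrusive (pullback.snd f g) := by
  refine ⟨fun h V _ _ _ g => h _ _ _ (IsPullback.of_hasPullback f g).flip, fun h X' Y' i₁ i₂ f' hpb y y' hy => ?_⟩
  obtain ⟨A, _, _, _, g, hgc, hgg⟩ := Groth.Agent.S19530.exists_valuation_pair hy
  obtain ⟨z, z', hz, h1, h2⟩ := h A (g ≫ i₂) (gen_specializes (IsLocalRing.closedPoint A))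
  let l : pullback f (g ≫ i₂) ⟶ X' :=
    hpb.flip.lift (pullback.fst f (g ≫ i₂)) (pullback.snd f (g ≫ i₂) ≫ g) (by rw [pullback.condition, Category.assoc])
  refine ⟨l z, l z', hz.map l.continuous, ?_, ?_⟩
  · rw [← Scheme.Hom.comp_apply, hpb.flip.lift_snd, Scheme.Hom.comp_apply, h1, hgc]
  · rw [← Scheme.Hom.comp_apply, hpb.flip.lift_snd, Scheme.Hom.comp_apply, h2]
    exact hgg

theorem univ_iff_lift {X Y : Scheme.{u}} (f : X ⟶ Y) :
    Subtr.UnivSSubtrusive f ↔
      ∀ (V : Type u) [CommRing V] [IsDomain V] [ValuationRing V] (g : Spec (CommRingCat.of V) ⟶ Y),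
        ∃ (V' : Type u) (_ : CommRing V') (_ : IsDomain V') (_ : ValuationRing V')
          (a : Spec (CommRingCat.of V') ⟶ X) (b : Spec (CommRingCat.of V') ⟶ Spec (CommRingCat.of V)),
          Surjective b ∧ a ≫ f = b ≫ g := by
  rw [univ_iff]
  refine forall_congr' fun V => forall_congr' fun _ => forall_congr' fun _ => forall_congr' fun _ =>
    forall_congr' fun g => ⟨fun h => ?_, ?_⟩
  · have e : Subtr.IsSSubtrusive (pullback.snd f g) ↔ ∃ (W : Type u) (_ : CommRing W) (_ : IsDomain W) (_ : ValuationRing W)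
        (l : Spec (CommRingCat.of W) ⟶ pullback f g), Surjective (l ≫ pullback.snd f g) := (tfae (pullback.snd f g)).out 1 4
    obtain ⟨W, _, _, _, l, hl⟩ := e.1 h
    exact ⟨W, inferInstance, inferInstance, inferInstance, l ≫ pullback.fst f g, l ≫ pullback.snd f g, hl,
      by rw [Category.assoc, Category.assoc, pullback.condition]⟩
  · rintro ⟨W, _, _, _, a, b, hb, hab⟩
    have e : Subtr.IsSSubtrusive (pullback.snd f g) ↔ ∃ (W : Type u) (_ : CommRing W) (_ : IsDomain W) (_ : ValuationRing W)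
        (l : Spec (CommRingCat.of W) ⟶ pullback f g), Surjective (l ≫ pullback.snd f g) := (tfae (pullback.snd f g)).out 1 4
    exact e.2
      ⟨W, inferInstance, inferInstance, inferInstance, pullback.lift a b hab, by rw [pullback.lift_snd]; exact hb⟩

end Groth.Agent.SubtrVal
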