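import Groth.Agent.LimLib.BaseChange
import Groth.Agent.SubtrVal.LocClosed

/-!
# S-subtrusiveness passes to cofiltered limits
-/

set_option autoImplicit false
set_option linter.style.haveILetI false
set_option backward.isDefEq.respectTransparency false
set_option backward.defeqAttrib.useBackward true

universe u

open CategoryTheory CategoryTheory.Limits AlgebraicGeometry Topology

namespace Groth.Agent.SubtrVal

lemma exists_point_of_isPullback {P A B S : Scheme.{u}} {fst : P ⟶ A} {snd : P ⟶ B} {f : A ⟶ S} {g : B ⟶ S}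
    (h : IsPullback fst snd f g) (a : A) (b : B) (e : f a = g b) : ∃ z : P, fst z = a ∧ snd z = b := by
  obtain ⟨z, h1, h2⟩ := Scheme.Pullback.exists_preimage_pullback a b e
  refine ⟨h.isoPullback.inv z, ?_, ?_⟩
  · rw [← Scheme.Hom.comp_apply, h.isoPullback_inv_fst, h1]
  · rw [← Scheme.Hom.comp_apply, h.isoPullback_inv_snd, h2]

/-- An inverse system of base changes of a quasi-compact morphism: S-subtrusive stages give an S-subtrusive limit. -/
theorem isSSubtrusive_of_stages {P Q : Scheme.{u}} (F : P ⟶ Q) [QuasiCompact F]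
    {J : Type*} [Nonempty J] {Pj Qj : J → Scheme.{u}} (Fj : ∀ j, Pj j ⟶ Qj j)
    (p : ∀ j, P ⟶ Pj j) (q : ∀ j, Q ⟶ Qj j) (hpb : ∀ j, IsPullback (p j) F (Fj j) (q j))
    (hdir : ∀ j k : J, ∃ (l : J) (a : Pj l ⟶ Pj j) (a' : Qj l ⟶ Qj j) (b : Pj l ⟶ Pj k) (b' : Qj l ⟶ Qj k),
      p l ≫ a = p j ∧ a ≫ Fj j = Fj l ≫ a' ∧ q l ≫ a' = q j ∧ p l ≫ b = p k ∧ b ≫ Fj k = Fj l ≫ b' ∧ q l ≫ b' = q k)
    (hbasis : ∀ (x : P) (O : Set P), IsOpen O → x ∈ O → ∃ (j : J) (V : Set (Pj j)), IsOpen V ∧ x ∈ p j ⁻¹' V ∧ p j ⁻¹' V ⊆ O)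
    (h : ∀ j, Subtr.IsSSubtrusive (Fj j)) : Subtr.IsSSubtrusive F := by
  classical
  intro y y' hy
  let C : J → Set P := fun j => p j ⁻¹' closure (Fj j ⁻¹' {q j y'})
  have hC : ∀ j, IsClosed (C j) := fun j => isClosed_closure.preimage (p j).continuous
  have hK : IsCompact (F ⁻¹' {y} : Set P) := by
    obtain ⟨W, hyW, -⟩ := ProConsLib.exists_affine_mem_subset (X := Q) isOpen_univ (Set.mem_univ y)
    have := isRetrocompact_of_isPro (ProConsLib.isPro_preimage F (isPro_singleton y)) (F.isCompact_preimage W.2.isCompact) (F ⁻¹ᵁ W.1).isOpen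
    have e : F ⁻¹' {y} ⊆ ((F ⁻¹ᵁ W.1 : P.Opens) : Set P) := fun x hx => by
      show F x ∈ W.1
      rw [show F x = y from hx]; exact hyW
    rwa [Set.inter_eq_left.2 e] at this
  have hmono : ∀ {l j : J} (a : Pj l ⟶ Pj j) (a' : Qj l ⟶ Qj j), p l ≫ a = p j → a ≫ Fj j = Fj l ≫ a' → q l ≫ a' = q j →
      C l ⊆ C j := by
    intro l j a a' h1 h2 h3 x hx
    show p j x ∈ closure _
    rw [← h1, Scheme.Hom.comp_apply]
    refine map_mem_closure a.continuous hx fun u hu => ?_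
    show Fj j (a u) = q j y'
    rw [← Scheme.Hom.comp_apply, h2, Scheme.Hom.comp_apply, show Fj l u = q l y' from hu, ← Scheme.Hom.comp_apply, h3]
  have hne : ∀ j, ((F ⁻¹' {y}) ∩ C j).Nonempty := by
    intro j
    obtain ⟨x, x', hx, h1, h2⟩ := h j (hy.map (q j).continuous)
    obtain ⟨z, hz, hzy⟩ := exists_point_of_isPullback (hpb j) x y h1
    refine ⟨z, hzy, show p j z ∈ closure _ from ?_⟩
    rw [hz]
    exact hx.mem_closed isClosed_closure (subset_closure h2)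
  have hfin : ∀ t : Finset J, ∃ l, C l ⊆ ⋂ j ∈ t, C j := by
    intro t
    induction t using Finset.induction_on with
    | empty => exact ⟨Classical.arbitrary J, by simp⟩
    | insert k t _ ih =>
      obtain ⟨l, hl⟩ := ih
      obtain ⟨m, a, a', b, b', h1, h2, h3, h4, h5, h6⟩ := hdir l k
      refine ⟨m, ?_⟩
      rw [Finset.set_biInter_insert]
      exact Set.subset_inter (hmono b b' h4 h5 h6) ((hmono a a' h1 h2 h3).trans hl)
  obtain ⟨x, hxy, hx⟩ := hK.inter_iInter_nonempty C hC fun t => by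
    obtain ⟨l, hl⟩ := hfin t
    exact (hne l).mono (Set.inter_subset_inter_right _ hl)
  have hcl : x ∈ closure (F ⁻¹' {y'}) := by
    rw [mem_closure_iff]
    intro O hO hxO
    obtain ⟨j, V, hV, hxV, hVO⟩ := hbasis x O hO hxO
    obtain ⟨u, huV, hu⟩ := mem_closure_iff.1 (Set.mem_iInter.1 hx j) V hV hxV
    obtain ⟨z, hz, hzy⟩ := exists_point_of_isPullback (hpb j) u y' hu
    exact ⟨z, hVO (show p j z ∈ V from hz.symm ▸ huV), hzy⟩
  obtain ⟨x', hx', hsp⟩ := (mem_closure_pro (ProConsLib.isPro_preimage F (isPro_singleton y')) x).1 hcl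
  exact ⟨x, x', hsp, hxy, hx'⟩

theorem isSSubtrusive_limit {I : Type u} [SmallCategory I] [IsCofiltered I]
    (D : I ⥤ Scheme.{u}) (c : Limits.Cone D) (hc : Limits.IsLimit c)
    [∀ (i j : I) (a : i ⟶ j), IsAffineHom (D.map a)] (i₀ : I)
    {X₀ Y₀ : Scheme.{u}} (f₀ : X₀ ⟶ Y₀) (g₀ : Y₀ ⟶ D.obj i₀) [QuasiCompact f₀]
    (i₁ : I) (ψ : i₁ ⟶ i₀) (h : ∀ (i : I) (φ : i ⟶ i₁),
      Subtr.IsSSubtrusive (pullback.snd f₀ (pullback.fst g₀ (D.map (φ ≫ ψ))))) :
    Subtr.IsSSubtrusive (pullback.snd f₀ (pullback.fst g₀ (c.π.app i₀))) := by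
  haveI : ∀ {i j : I} (f : i ⟶ j), IsAffineHom (D.map f) := fun f => inferInstance
  let J := Over i₁
  haveI : Nonempty J := ⟨Over.mk (𝟙 i₁)⟩
  -- maps between the base changes
  let qm : ∀ (k : I) (e : k ⟶ i₀) {T : Scheme.{u}} (s : T ⟶ D.obj k) (t : T ⟶ D.obj i₀), s ≫ D.map e = t →
      (pullback g₀ t ⟶ pullback g₀ (D.map e)) := fun k e T s t hst =>
    pullback.map _ _ _ _ (𝟙 _) s (𝟙 _) (by simp) (by simp [hst])
  let pm : ∀ (k : I) (e : k ⟶ i₀) {T : Scheme.{u}} (s : T ⟶ D.obj k) (t : T ⟶ D.obj i₀), s ≫ D.map e = t →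
      (pullback f₀ (pullback.fst g₀ t) ⟶ pullback f₀ (pullback.fst g₀ (D.map e))) := fun k e T s t hst =>
    pullback.map _ _ _ _ (𝟙 _) (qm k e s t hst) (𝟙 _) (by simp) (by simp [qm])
  have w : ∀ j : J, c.π.app j.left ≫ D.map (j.hom ≫ ψ) = c.π.app i₀ := fun j => c.w _
  refine isSSubtrusive_of_stages (J := J) _ (fun j => pullback.snd f₀ (pullback.fst g₀ (D.map (j.hom ≫ ψ))))
    (fun j => pm _ _ _ _ (w j)) (fun j => qm _ _ _ _ (w j)) (fun j => ?_) (fun j k => ?_) ?_ fun j => h _ j.hom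
  · refine IsPullback.of_right ?_ (by simp [pm]) (IsPullback.of_hasPullback f₀ (pullback.fst g₀ (D.map (j.hom ≫ ψ))))
    simp only [pm, qm, pullback.lift_fst, Category.comp_id]
    exact IsPullback.of_hasPullback _ _
  · obtain ⟨l, a, b, hab⟩ := IsCofiltered.cospan j.hom k.hom
    have ha : D.map a ≫ D.map (j.hom ≫ ψ) = D.map ((a ≫ j.hom) ≫ ψ) := by rw [← D.map_comp, Category.assoc]
    have hb : D.map b ≫ D.map (k.hom ≫ ψ) = D.map ((a ≫ j.hom) ≫ ψ) := by rw [← D.map_comp, hab, Category.assoc]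
    refine ⟨Over.mk (a ≫ j.hom), pm _ _ _ _ ha, qm _ _ _ _ ha, pm _ _ _ _ hb, qm _ _ _ _ hb, ?_, ?_, ?_, ?_, ?_, ?_⟩
    all_goals first
      | (simp [pm]; done)
      | (simp only [pm, qm]; apply pullback.hom_ext <;> simp [c.w]; done)
      | (simp only [pm, qm]; apply pullback.hom_ext <;> simp <;> (congr 1; apply pullback.hom_ext <;> simp [c.w]))
  · intro x O hO hxO
    let a : X₀ ⟶ D.obj i₀ := f₀ ≫ g₀
    let e : pullback f₀ (pullback.fst g₀ (c.π.app i₀)) ⟶ pullback (c.π.app i₀) a :=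
      pullback.lift (pullback.snd _ _ ≫ pullback.snd _ _) (pullback.fst _ _)
        (by simp only [a, Category.assoc, ← pullback.condition, pullback.condition_assoc])
    haveI : IsIso e := by
      refine ⟨pullback.lift (pullback.snd _ _) (pullback.lift (pullback.snd _ _ ≫ f₀) (pullback.fst _ _)
        (by simp only [a, Category.assoc, pullback.condition])) (by simp), ?_, ?_⟩
      · apply pullback.hom_ext
        · simp [e]
        · apply pullback.hom_ext <;> simp [e, pullback.condition]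
      · apply pullback.hom_ext <;> simp [e]
    have he : IsOpen (e '' O) := e.isOpenEmbedding.isOpenMap O hO
    obtain ⟨_, ⟨_, ⟨j₀, V, -, rfl⟩, rfl⟩, hxV, hVO⟩ :=
      (isBasis_preimage_isAffineOpen (LimLib.bcDiagram D a) (LimLib.bcCone c a) (LimLib.isLimitBcCone a hc)).exists_subset_of_mem_open
        (Set.mem_image_of_mem e hxO) he
    obtain ⟨l, α, β, hαβ⟩ := IsCofiltered.cospan j₀.hom ψ
    have hl : D.map α ≫ D.map j₀.hom = D.map (β ≫ ψ) := by rw [← D.map_comp, hαβ]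
    let t : pullback f₀ (pullback.fst g₀ (D.map (β ≫ ψ))) ⟶ (LimLib.bcDiagram D a).obj j₀ :=
      pullback.lift (pullback.snd _ _ ≫ pullback.snd _ _ ≫ D.map α) (pullback.fst _ _)
        (by simp only [a, Category.assoc, hl, ← pullback.condition, pullback.condition_assoc])
    have ht : pm _ _ _ _ (w (Over.mk β)) ≫ t = e ≫ (LimLib.bcCone c a).π.app j₀ := by
      apply pullback.hom_ext <;> simp [pm, qm, t, e, c.w]
    refine ⟨Over.mk β, t ⁻¹' V, V.2.preimage t.continuous, ?_, fun z hz => ?_⟩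
    · show (pm _ _ _ _ (w (Over.mk β)) ≫ t) x ∈ V
      rw [ht]
      exact hxV
    · have hz' : e z ∈ e '' O := hVO (show (e ≫ (LimLib.bcCone c a).π.app j₀) z ∈ V by
        rw [← ht]; exact hz)
      exact e.isOpenEmbedding.injective.mem_set_image.1 hz'

end Groth.Agent.SubtrVal
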