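import Mathlib.AlgebraicGeometry.Morphisms.FlatDescent
import Mathlib.AlgebraicGeometry.ZariskisMainTheorem
import Groth.Prelude.Def_SGA1

/-!
# Descent along universally submersive morphisms
-/

set_option autoImplicit false
set_option linter.style.haveILetI false
set_option backward.isDefEq.respectTransparency false
set_option backward.isDefEq.respectTransparency.types false

universe u

open CategoryTheory CategoryTheory.Limits AlgebraicGeometry MorphismProperty

namespace Groth.Agent.SubtrVal

instance : (SGA1.UnivSubmersive.{u}).IsStableUnderBaseChange :=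
  inferInstanceAs (MorphismProperty.universally _).IsStableUnderBaseChange

theorem isQuotientMap_of_univSubmersive {X Y : Scheme.{u}} {f : X ⟶ Y} (h : SGA1.UnivSubmersive f) :
    Topology.IsQuotientMap f :=
  h (𝟙 _) (𝟙 _) f (IsPullback.of_vert_isIso ⟨by simp⟩)

/-- Universally closed morphisms descend along universally submersive ones. -/
instance descendsAlong_universallyClosed :
    DescendsAlong @UniversallyClosed SGA1.UnivSubmersive.{u} := by
  refine DescendsAlong.mk' fun {X Y Z φ g} _ hφ hfst => ⟨universally_mk' _ _ fun {T} f _ s hs => ?_⟩
  haveI : UniversallyClosed (pullback.fst φ g) := hfst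
  let p := pullback.fst (pullback.fst φ f) (pullback.fst φ g)
  let r : pullback (pullback.fst φ f) (pullback.fst φ g) ⟶ pullback f g :=
    pullback.map _ _ _ _ (pullback.snd _ _) (pullback.snd _ _) φ (pullback.condition ..)
      (pullback.condition ..)
  have : IsClosed ((pullback.snd φ f).base ⁻¹' ((pullback.fst f g).base '' s)) := by
    rw [← Scheme.image_preimage_eq_of_isPullback (isPullback_map_snd_snd ..)]
    exact p.isClosedMap _ (hs.preimage r.continuous)
  have hq : Topology.IsQuotientMap (pullback.snd φ f) :=
    isQuotientMap_of_univSubmersive (MorphismProperty.pullback_snd φ f hφ)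
  rwa [hq.isClosed_preimage] at this

private lemma lqf_of_etale {X Y : Scheme.{u}} (f : X ⟶ Y) [Etale f] : LocallyQuasiFinite f := by
  rw [HasRingHomProperty.iff_appLE (P := @LocallyQuasiFinite)]
  intro U V e
  have h₁ : (f.appLE U V e).hom.FiniteType := HasRingHomProperty.appLE (P := @LocallyOfFiniteType) f inferInstance U V e
  have h₂ : (f.appLE U V e).hom.FormallyUnramified :=
    HasRingHomProperty.appLE (P := @FormallyUnramified) f inferInstance U V e
  algebraize [(f.appLE U V e).hom]
  exact { finite_fiber := fun P _ => Algebra.FormallyUnramified.finite_of_free P.ResidueField _ }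

/-- Finite morphisms descend along universally submersive ones, among separated-by-descent étale morphisms. -/
theorem isFinite_of_etale {X S S' : Scheme.{u}} (g : S' ⟶ S) (hg : SGA1.UnivSubmersive g) [QuasiCompact g]
    (f : X ⟶ S) [Etale f] [IsFinite (pullback.snd f g)] : IsFinite f := by
  haveI : Surjective g := ⟨(isQuotientMap_of_univSubmersive hg).surjective⟩
  haveI : UniversallyClosed f :=
    MorphismProperty.of_pullback_snd_of_descendsAlong (P := @UniversallyClosed) (Q := SGA1.UnivSubmersive.{u}) hg
      (inferInstanceAs (UniversallyClosed (pullback.snd f g)))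
  haveI : QuasiCompact f := inferInstance
  have hd : UniversallyClosed (pullback.diagonal f) :=
    MorphismProperty.of_pullback_snd_of_descendsAlong (P := MorphismProperty.diagonal @UniversallyClosed)
      (Q := SGA1.UnivSubmersive.{u}) hg
      (show UniversallyClosed (pullback.diagonal (pullback.snd f g)) from inferInstance)
  haveI : IsSeparated f := ⟨IsClosedImmersion.of_isPreimmersion _ (pullback.diagonal f).isClosedMap.isClosed_range⟩
  haveI : IsProper f := ⟨⟩
  haveI := lqf_of_etale f
  exact IsFinite.of_isProper_of_locallyQuasiFinite f

/-- Universal quotient maps descend along surjective morphisms which are proper, or flat and quasi-compact. -/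
theorem universally_isQuotientMap_of_baseChange {X Y Y' : Scheme.{u}} (f : X ⟶ Y) (g : Y' ⟶ Y) [Surjective g]
    (hg : IsProper g ∨ (Flat g ∧ QuasiCompact g))
    (h : MorphismProperty.universally (topologically @Topology.IsQuotientMap) (pullback.snd f g)) :
    MorphismProperty.universally (topologically @Topology.IsQuotientMap) f := by
  have hgq : ∀ {A B : Scheme.{u}} (j₁ : A ⟶ Y') (j₂ : B ⟶ Y) (g' : A ⟶ B), IsPullback g' j₁ j₂ g →
      Topology.IsQuotientMap g' := by
    intro A B j₁ j₂ g' hpb
    haveI : Surjective g' := MorphismProperty.of_isPullback (P := @Surjective) hpb.flip inferInstance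
    rcases hg with hp | ⟨hf, hc⟩
    · haveI : IsProper g' := MorphismProperty.of_isPullback (P := @IsProper) hpb.flip hp
      exact g'.isClosedMap.isQuotientMap g'.continuous g'.surjective
    · haveI : Flat g' := MorphismProperty.of_isPullback (P := @Flat) hpb.flip hf
      haveI : QuasiCompact g' := MorphismProperty.of_isPullback (P := @QuasiCompact) hpb.flip hc
      exact Flat.isQuotientMap_of_surjective g'
  intro X' T i₁ i₂ f' hpb
  let fst' : pullback (pullback.fst f g) i₁ ⟶ X' := pullback.snd _ _
  have hbig : IsPullback (pullback.snd (pullback.fst f g) i₁ ≫ f') (pullback.fst (pullback.fst f g) i₁) i₂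
      (pullback.fst f g ≫ f) := (IsPullback.of_hasPullback _ _).flip.paste_horiz hpb
  -- the same base change through `Y'`
  let b : pullback (pullback.fst f g) i₁ ⟶ pullback g i₂ :=
    pullback.lift (pullback.fst _ _ ≫ pullback.snd f g) (pullback.snd _ _ ≫ f')
      (by rw [Category.assoc, ← pullback.condition (f := f) (g := g), Category.assoc, ← hbig.w, Category.assoc])
  have h1 : IsPullback b (pullback.fst (pullback.fst f g) i₁) (pullback.fst g i₂) (pullback.snd f g) := by
    have hout : IsPullback (b ≫ pullback.snd g i₂) (pullback.fst (pullback.fst f g) i₁) i₂ (pullback.snd f g ≫ g) := by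
      rw [pullback.lift_snd, ← pullback.condition]
      exact hbig
    exact IsPullback.of_right hout (by simp [b]) (IsPullback.of_hasPullback g i₂).flip
  have q1 : Topology.IsQuotientMap b := h _ _ _ h1
  have q2 : Topology.IsQuotientMap (pullback.snd g i₂) := hgq _ _ _ (IsPullback.of_hasPullback g i₂).flip
  have q3 : Topology.IsQuotientMap (pullback.snd (pullback.fst f g) i₁ ≫ f') := by
    have e : b ≫ pullback.snd g i₂ = pullback.snd (pullback.fst f g) i₁ ≫ f' := pullback.lift_snd _ _ _
    rw [← e, Scheme.Hom.comp_base, TopCat.coe_comp]
    exact q2.comp q1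
  rw [Scheme.Hom.comp_base, TopCat.coe_comp] at q3
  exact Topology.IsQuotientMap.of_comp (pullback.snd (pullback.fst f g) i₁).continuous f'.continuous q3

end Groth.Agent.SubtrVal
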