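import Groth.Agent.SubtrVal.Basic
import Groth.Prelude.Def_HTop
import Mathlib.AlgebraicGeometry.Morphisms.FinitePresentation
import Mathlib.AlgebraicGeometry.Morphisms.Proper

/-!
# One-member h coverings
-/

set_option autoImplicit false
set_option linter.style.haveILetI false
set_option backward.isDefEq.respectTransparency false
set_option backward.isDefEq.respectTransparency.types false

universe u

open CategoryTheory CategoryTheory.Limits AlgebraicGeometry

namespace Groth.Agent.SubtrVal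

theorem univSSubtrusive_of_universallyClosed_surjective {X Y : Scheme.{u}} (f : X ⟶ Y) [UniversallyClosed f]
    [Surjective f] : Subtr.UnivSSubtrusive f := by
  intro P T i₁ i₂ f' hp y y' hy
  haveI : UniversallyClosed f' := MorphismProperty.of_isPullback (P := @UniversallyClosed) hp.flip inferInstance
  haveI : Surjective f' := MorphismProperty.of_isPullback (P := @Surjective) hp.flip inferInstance
  obtain ⟨x', hx'⟩ := f'.surjective y'
  obtain ⟨x, hx, hfx⟩ : y ∈ f' '' closure {x'} := by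
    have hc := f'.isClosedMap _ (isClosed_closure (s := {x'}))
    exact hy.mem_closed hc ⟨x', subset_closure rfl, hx'⟩
  exact ⟨x, x', specializes_iff_mem_closure.2 hx, hfx, hx'⟩

theorem isHCover_singleton {X Y : Scheme.{u}} (f : Y ⟶ X) [QuasiCompact f] [LocallyOfFinitePresentation f]
    (hf : Subtr.UnivSSubtrusive f) : HTop.IsHCover (PreZeroHypercover.singleton.{0} f) := by
  classical
  refine ⟨fun _ => ‹LocallyOfFinitePresentation f›, fun U => ?_⟩
  obtain ⟨t, ht⟩ : ∃ t : Finset {V : Y.affineOpens // (V : Y.Opens) ≤ f ⁻¹ᵁ U.1},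
      ((f ⁻¹ᵁ U.1 : Y.Opens) : Set Y) ⊆ ⋃ V ∈ t, ((V.1 : Y.Opens) : Set Y) := by
    refine (f.isCompact_preimage U.2.isCompact).elim_finite_subcover _ (fun V => V.1.1.2) fun x hx => ?_
    obtain ⟨V, hV, hxV, hVU⟩ := exists_isAffineOpen_mem_and_subset (X := Y) (x := x) (U := f ⁻¹ᵁ U.1) hx
    exact Set.mem_iUnion.2 ⟨⟨⟨V, hV⟩, hVU⟩, hxV⟩
  obtain ⟨m, ⟨e⟩⟩ := Finite.exists_equiv_fin t
  let W : Fin m → t := e.symm
  let F : PreZeroHypercover.{0} (U.1 : X.Opens).toScheme :=
    { I₀ := Fin m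
      X := fun j => ((W j).1.1 : Y.Opens).toScheme
      f := fun j => f.resLE U.1 _ (W j).1.2 }
  haveI : IsAffine (U.1 : X.Opens).toScheme := U.2
  refine ⟨F, ⟨inferInstance, inferInstanceAs (Finite (Fin m)), fun j => (W j).1.1.2, fun V _ _ g => ?_⟩,
    fun j => ⟨⟨⟩, ((W j).1.1 : Y.Opens).ι, (Scheme.Hom.resLE_comp_ι _ _).symm⟩⟩
  obtain ⟨V', _, _, _, a, b, hb, hab⟩ := (univ_iff_lift _).1 hf V (g ≫ (U.1 : X.Opens).ι)
  obtain ⟨φ, hφ⟩ : ∃ φ : V ⟶ CommRingCat.of V', Spec.map φ = b := ⟨_, Spec.map_preimage _⟩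
  obtain ⟨w, hw, hsp, hgen⟩ := pair_of_surjective b hb.surj (IsLocalRing.closedPoint V)
  have hinj : Function.Injective φ.hom := by
    subst hφ
    exact (RingHom.injective_iff_ker_eq_bot _).2
      ((RingHom.ker_eq_comap_bot _).trans (congrArg PrimeSpectrum.asIdeal hgen))
  have hclosed : b (IsLocalRing.closedPoint V') = IsLocalRing.closedPoint V := by
    have h1 : IsLocalRing.closedPoint V ⤳ b (IsLocalRing.closedPoint V') :=
      hw ▸ (IsLocalRing.specializes_closedPoint w).map b.continuous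
    exact (h1.antisymm (IsLocalRing.specializes_closedPoint _)).eq.symm
  have hloc : IsLocalHom φ.hom := ⟨fun r hr => by
    by_contra hna
    subst hφ
    have : r ∈ (Spec.map φ (IsLocalRing.closedPoint V')).asIdeal := hclosed.symm ▸ hna
    exact this hr⟩
  have hfu : a (IsLocalRing.closedPoint V') ∈ f ⁻¹ᵁ U.1 := by
    show f (a (IsLocalRing.closedPoint V')) ∈ U.1
    rw [← Scheme.Hom.comp_apply, hab]
    exact (g (b (IsLocalRing.closedPoint V'))).2
  obtain ⟨V₀, hV₀, huV⟩ := Set.mem_iUnion₂.1 (ht hfu)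
  let j : Fin m := e ⟨V₀, hV₀⟩
  have hj : W j = ⟨V₀, hV₀⟩ := e.symm_apply_apply _
  have hrange : Set.range a ⊆ Set.range (V₀.1 : Y.Opens).ι := by
    rintro _ ⟨s, rfl⟩
    rw [Scheme.Opens.range_ι]
    exact ((IsLocalRing.specializes_closedPoint s).map a.continuous).mem_open (V₀.1 : Y.Opens).2 huV
  have hl : IsOpenImmersion.lift (V₀.1 : Y.Opens).ι a hrange ≫ f.resLE U.1 (V₀.1 : Y.Opens) V₀.2 = b ≫ g := by
    rw [← cancel_mono (U.1 : X.Opens).ι, Category.assoc, Scheme.Hom.resLE_comp_ι,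
      IsOpenImmersion.lift_fac_assoc, Category.assoc, hab]
  obtain ⟨k, hk⟩ : ∃ k : Spec (CommRingCat.of V') ⟶ F.X j, k ≫ F.f j = b ≫ g := by
    show ∃ k : Spec (CommRingCat.of V') ⟶ ((W j).1.1 : Y.Opens).toScheme,
      k ≫ f.resLE U.1 _ (W j).1.2 = b ≫ g
    rw [hj]
    exact ⟨_, hl⟩
  exact ⟨CommRingCat.of V', inferInstance, inferInstance, φ, ⟨hinj, hloc⟩, j, k, hφ ▸ hk⟩

end Groth.Agent.SubtrVal
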