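import Groth.Agent.SubtrVal.Basic
import Mathlib.RingTheory.TensorProduct.DirectLimitFG
import Mathlib.RingTheory.TensorProduct.Basic
import Mathlib.AlgebraicGeometry.Pullbacks
import Mathlib.AlgebraicGeometry.PullbackCarrier
import Mathlib.AlgebraicGeometry.Morphisms.QuasiCompact
import Mathlib.RingTheory.Adjoin.FG

/-!
# A failure of the lifting of specialisations over a valuation ring descends to a finitely generated subalgebra
-/

set_option autoImplicit false
set_option linter.style.haveILetI false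
set_option backward.isDefEq.respectTransparency false
set_option backward.isDefEq.respectTransparency.types false

universe u

open CategoryTheory CategoryTheory.Limits AlgebraicGeometry TensorProduct

namespace Groth.Agent.SubtrVal

section Algebra

open Algebra.TensorProduct (includeLeftRingHom)

variable {B : Type u} {A : Type u} {V : Type u} [CommRing B] [CommRing A] [CommRing V] [Algebra B A] [Algebra B V]

/-- No pair of primes of `R ⊗ A` over the zero ideal and `P`. -/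
def NoPair (R : Type u) [CommRing R] [Algebra B R] (P : Ideal R) (A : Type u) [CommRing A] [Algebra B A] : Prop :=
  ∀ Q' Q : Ideal (R ⊗[B] A), Q'.IsPrime → Q.IsPrime → Q' ≤ Q →
    Q'.comap (includeLeftRingHom : R →+* R ⊗[B] A) = ⊥ →
    Q.comap (includeLeftRingHom : R →+* R ⊗[B] A) = P → False

lemma exists_witness [IsDomain V] [IsLocalRing V] (h : NoPair (B := B) V (IsLocalRing.maximalIdeal V) A) :
    ∃ v : V, v ≠ 0 ∧ ∃ u ∈ (IsLocalRing.maximalIdeal V).map (includeLeftRingHom : V →+* V ⊗[B] A),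
      (includeLeftRingHom : V →+* V ⊗[B] A) v * (1 - u) = 0 := by
  let j : V →+* V ⊗[B] A := includeLeftRingHom
  let I := (IsLocalRing.maximalIdeal V).map j
  by_contra hno
  push Not at hno
  let M : Submonoid (V ⊗[B] A) :=
    { carrier := {b | ∃ v : V, v ≠ 0 ∧ ∃ u ∈ I, b = j v * (1 - u)}
      one_mem' := ⟨1, one_ne_zero, 0, zero_mem _, by simp⟩
      mul_mem' := by
        rintro _ _ ⟨v, hv, u, hu, rfl⟩ ⟨v', hv', u', hu', rfl⟩
        exact ⟨v * v', mul_ne_zero hv hv', u + u' - u * u', sub_mem (add_mem hu hu') (I.mul_mem_right _ hu),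
          by rw [map_mul]; ring⟩ }
  have hM : Disjoint ((⊥ : Ideal (V ⊗[B] A)) : Set (V ⊗[B] A)) (M : Set (V ⊗[B] A)) := by
    rw [Set.disjoint_left]
    rintro b (rfl : b = 0) ⟨v, hv, u, hu, hb⟩
    exact hno v hv u hu hb.symm
  obtain ⟨Q', hQ', -, hQ'M⟩ := Ideal.exists_le_prime_disjoint _ M hM
  have hne : Q' ⊔ I ≠ ⊤ := fun he => by
    obtain ⟨q, hq, u, hu, hqu⟩ := Submodule.mem_sup.1 ((Ideal.eq_top_iff_one _).1 he)
    refine Set.disjoint_left.1 hQ'M hq ⟨1, one_ne_zero, u, hu, ?_⟩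
    rw [map_one, one_mul, ← hqu, add_sub_cancel_right]
  obtain ⟨Q, hQ, hle⟩ := Ideal.exists_le_maximal _ hne
  refine h Q' Q hQ' hQ.isPrime (le_sup_left.trans hle) (eq_bot_iff.2 fun v hv => ?_) ?_
  · by_contra hv0
    exact Set.disjoint_left.1 hQ'M hv ⟨v, hv0, 0, zero_mem _, by simp [j]⟩
  · exact ((IsLocalRing.maximalIdeal.isMaximal V).eq_of_le (Ideal.comap_ne_top _ hQ.ne_top)
      (Ideal.map_le_iff_le_comap.1 (le_sup_right.trans hle))).symm

/-- The map induced on tensor products by an inclusion of subalgebras. -/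
noncomputable abbrev incl {R R' : Subalgebra B V} (h : R ≤ R') (A : Type u) [CommRing A] [Algebra B A] :
    R ⊗[B] A →ₐ[B] R' ⊗[B] A :=
  Algebra.TensorProduct.map (Subalgebra.inclusion h) (AlgHom.id B A)

/-- The map to `V ⊗ A`. -/
noncomputable abbrev toV (R : Subalgebra B V) (A : Type u) [CommRing A] [Algebra B A] :
    R ⊗[B] A →ₐ[B] V ⊗[B] A :=
  Algebra.TensorProduct.map R.val (AlgHom.id B A)

lemma incl_mem_map {R R' : Subalgebra B V} (h : R ≤ R') (P : Ideal V) {x : R ⊗[B] A}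
    (hx : x ∈ (P.comap (R.val : R →+* V)).map (includeLeftRingHom : R →+* R ⊗[B] A)) :
    incl h A x ∈ (P.comap (R'.val : R' →+* V)).map (includeLeftRingHom : R' →+* R' ⊗[B] A) := by
  induction hx using Submodule.span_induction with
  | mem y hy =>
    obtain ⟨r, hr, rfl⟩ := hy
    exact Ideal.subset_span ⟨Subalgebra.inclusion h r, hr, by simp [includeLeftRingHom]⟩
  | zero => rw [map_zero]; exact zero_mem _
  | add y z _ _ hy hz => rw [map_add]; exact add_mem hy hz
  | smul a y _ hy => rw [smul_eq_mul, map_mul]; exact Ideal.mul_mem_left _ _ hy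

lemma toV_incl {R R' : Subalgebra B V} (h : R ≤ R') (x : R ⊗[B] A) : toV R' A (incl h A x) = toV R A x := by
  induction x using TensorProduct.induction_on with
  | zero => simp only [map_zero]
  | tmul a b => simp
  | add a b ha hb => simp only [map_add, ha, hb]

lemma toV_eq_rTensor (R : Subalgebra B V) (x : R ⊗[B] A) : toV R A x = LinearMap.rTensor A R.val.toLinearMap x := rfl

lemma incl_eq_rTensor {R R' : Subalgebra B V} (h : R ≤ R') (x : R ⊗[B] A) :
    incl h A x = LinearMap.rTensor A (Subalgebra.inclusion h).toLinearMap x := rfl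

lemma exists_lift_mem_map (P : Ideal V) {u : V ⊗[B] A}
    (hu : u ∈ P.map (includeLeftRingHom : V →+* V ⊗[B] A)) :
    ∃ R : Subalgebra B V, R.FG ∧ ∃ u₀ ∈ (P.comap (R.val : R →+* V)).map (includeLeftRingHom : R →+* R ⊗[B] A),
      toV R A u₀ = u := by
  induction hu using Submodule.span_induction with
  | mem y hy =>
    obtain ⟨m, hm, rfl⟩ := hy
    refine ⟨Algebra.adjoin B {m}, ⟨{m}, by simp⟩, _,
      Ideal.mem_map_of_mem _ (show (⟨m, Algebra.subset_adjoin rfl⟩ : Algebra.adjoin B {m}) ∈ _ from hm), ?_⟩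
    simp [includeLeftRingHom]
  | zero => exact ⟨⊥, Subalgebra.fg_bot, 0, zero_mem _, map_zero _⟩
  | add y z _ _ hy hz =>
    obtain ⟨R, hR, a, ha, rfl⟩ := hy
    obtain ⟨R', hR', b, hb, rfl⟩ := hz
    exact ⟨R ⊔ R', hR.sup hR', incl (le_sup_left : R ≤ R ⊔ R') A a + incl (le_sup_right : R' ≤ R ⊔ R') A b,
      add_mem (incl_mem_map _ P ha) (incl_mem_map _ P hb), by rw [map_add, toV_incl, toV_incl]⟩
  | smul c y _ hy =>
    obtain ⟨R, hR, a, ha, rfl⟩ := hy
    obtain ⟨R', hR', hc⟩ := TensorProduct.Algebra.exists_of_fg c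
    obtain ⟨c₀, hc₀⟩ := hc
    refine ⟨R ⊔ R', hR.sup hR', incl (le_sup_right : R' ≤ R ⊔ R') A c₀ * incl (le_sup_left : R ≤ R ⊔ R') A a,
      Ideal.mul_mem_left _ _ (incl_mem_map _ P ha), ?_⟩
    rw [map_mul, toV_incl, toV_incl, smul_eq_mul]
    congr 1

/-- Absence of pairs descends to a finitely generated subalgebra. -/
theorem noPair_descend [IsDomain V] [IsLocalRing V] (h : NoPair (B := B) V (IsLocalRing.maximalIdeal V) A) :
    ∃ R₀ : Subalgebra B V, R₀.FG ∧ ∀ R : Subalgebra B V, R₀ ≤ R →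
      NoPair (B := B) R ((IsLocalRing.maximalIdeal V).comap (R.val : R →+* V)) A := by
  obtain ⟨v, hv, u, hu, huv⟩ := exists_witness h
  obtain ⟨R₁, hR₁, u₀, hu₀, hu₀u⟩ := exists_lift_mem_map _ hu
  let R₂ := R₁ ⊔ Algebra.adjoin B {v}
  have hR₂ : R₂.FG := hR₁.sup ⟨{v}, by simp⟩
  have hv₂ : v ∈ R₂ := le_sup_right (a := R₁) (Algebra.subset_adjoin rfl)
  let w : R₂ ⊗[B] A := (includeLeftRingHom : R₂ →+* R₂ ⊗[B] A) ⟨v, hv₂⟩ * (1 - incl (le_sup_left : R₁ ≤ R₂) A u₀)
  have hw : toV R₂ A w = toV R₂ A 0 := by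
    rw [map_zero, map_mul, map_sub, map_one, toV_incl, hu₀u, ← huv]
    congr 1
  rw [toV_eq_rTensor, toV_eq_rTensor] at hw
  obtain ⟨R₃, h23, hR₃, hw3⟩ := TensorProduct.Algebra.eq_of_fg_of_subtype_eq hR₂ hw
  rw [← incl_eq_rTensor, ← incl_eq_rTensor] at hw3
  refine ⟨R₃, hR₃, fun R hR Q' Q hQ' hQ hle hbot hP => ?_⟩
  have hw4 : incl (h23.trans hR) A w = 0 := by
    have e : ∀ x : R₂ ⊗[B] A, incl (h23.trans hR) A x = incl hR A (incl h23 A x) := fun x => by
      induction x using TensorProduct.induction_on with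
      | zero => simp only [map_zero]
      | tmul a b => simp
      | add a b ha hb => simp only [map_add, ha, hb]
    rw [e, hw3, map_zero, map_zero]
  have hu' := incl_mem_map (h23.trans hR) (IsLocalRing.maximalIdeal V) (incl_mem_map (le_sup_left : R₁ ≤ R₂) _ hu₀)
  set u' := incl (h23.trans hR) A (incl (le_sup_left : R₁ ≤ R₂) A u₀)
  have huQ : u' ∈ Q := Ideal.map_le_iff_le_comap.2 hP.ge hu'
  have hmem : (includeLeftRingHom : R →+* R ⊗[B] A) ⟨v, (h23.trans hR) hv₂⟩ * (1 - u') ∈ Q' := by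
    convert Q'.zero_mem
    rw [← hw4, map_mul, map_sub, map_one]
    congr 1
  rcases hQ'.mem_or_mem hmem with h1 | h1
  · have : (⟨v, (h23.trans hR) hv₂⟩ : R) ∈ (⊥ : Ideal R) := hbot ▸ h1
    exact hv (congrArg Subtype.val (Ideal.mem_bot.1 this))
  · exact hQ.ne_top ((Ideal.eq_top_iff_one _).2 (by simpa using add_mem (hle h1) huQ))

end Algebra

section Scheme

variable {X Y : Scheme.{u}}

/-- A point `x` of the pullback over a specialisation of another point. -/
def HasPair {S : Scheme.{u}} (f : X ⟶ Y) (g : S ⟶ Y) (s' s : S) : Prop :=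
  ∃ x x' : ↑(pullback f g), x' ⤳ x ∧ pullback.snd f g x = s ∧ pullback.snd f g x' = s'

lemma HasPair.map {S T : Scheme.{u}} (f : X ⟶ Y) {g : S ⟶ Y} {g' : T ⟶ Y} (t : T ⟶ S) (ht : t ≫ g = g')
    {s' s : T} (h : HasPair f g' s' s) : HasPair f g (t s') (t s) := by
  obtain ⟨x, x', hx, h1, h2⟩ := h
  let l : pullback f g' ⟶ pullback f g := pullback.lift (pullback.fst f g') (pullback.snd f g' ≫ t)
    (by rw [Category.assoc, ht, pullback.condition])
  refine ⟨l x, l x', hx.map l.continuous, ?_, ?_⟩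
  · rw [← Scheme.Hom.comp_apply, pullback.lift_snd, Scheme.Hom.comp_apply, h1]
  · rw [← Scheme.Hom.comp_apply, pullback.lift_snd, Scheme.Hom.comp_apply, h2]

lemma isSSubtrusive_iff_hasPair {V : Type u} [CommRing V] [IsDomain V] [ValuationRing V]
    (f : X ⟶ Y) (g : Spec (CommRingCat.of V) ⟶ Y) :
    Subtr.IsSSubtrusive (pullback.snd f g) ↔ HasPair f g (gen V) (IsLocalRing.closedPoint V) :=
  (tfae (pullback.snd f g)).out 1 3

/-- If the base change to a valuation ring does not lift the specialisation from the closed point to the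
generic point, then this already happens over a finitely generated algebra. -/
theorem descend {V : Type u} [CommRing V] [IsDomain V] [IsLocalRing V] (f : X ⟶ Y) [QuasiCompact f]
    (g : Spec (CommRingCat.of V) ⟶ Y) (h : ¬ HasPair f g (gen V) (IsLocalRing.closedPoint V)) :
    ∃ (W : Y.Opens) (hW : IsAffineOpen W) (R : Type u) (_ : CommRing R) (_ : IsDomain R)
      (φ : Γ(Y, W) ⟶ CommRingCat.of R) (p : Spec (CommRingCat.of R)),
      φ.hom.FiniteType ∧ ¬ HasPair f (Spec.map φ ≫ hW.fromSpec) (gen R) p := by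
  classical
  obtain ⟨W, hW, hyW, -⟩ := exists_isAffineOpen_mem_and_subset (X := Y) (x := g (IsLocalRing.closedPoint V))
    (U := ⊤) trivial
  have hgW : Set.range g ⊆ Set.range hW.fromSpec := by
    rw [hW.range_fromSpec]
    rintro _ ⟨s, rfl⟩
    exact ((IsLocalRing.specializes_closedPoint s).map g.continuous).mem_open W.2 hyW
  obtain ⟨ψ, hψ⟩ : ∃ ψ : Γ(Y, W) ⟶ CommRingCat.of V, Spec.map ψ ≫ hW.fromSpec = g :=
    ⟨Spec.preimage (IsOpenImmersion.lift hW.fromSpec g hgW), by rw [Spec.map_preimage, IsOpenImmersion.lift_fac]⟩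
  algebraize [ψ.hom]
  have hcomp : IsCompact ((f ⁻¹ᵁ W : X.Opens) : Set X) :=
    QuasiCompact.isCompact_preimage (f := f) _ W.2 hW.isCompact
  obtain ⟨t, ht⟩ := hcomp.elim_finite_subcover (fun U : {U : X.affineOpens // (U : X.Opens) ≤ f ⁻¹ᵁ W} => ((U.1 : X.Opens) : Set X))
    (fun U => U.1.1.2) fun x hx => by
      obtain ⟨U, hU, hxU, hUW⟩ := exists_isAffineOpen_mem_and_subset (X := X) (x := x) (U := f ⁻¹ᵁ W) hx
      exact Set.mem_iUnion.2 ⟨⟨⟨U, hU⟩, hUW⟩, hxU⟩
  have key : ∀ U : {U : X.affineOpens // (U : X.Opens) ≤ f ⁻¹ᵁ W}, ∃ R₀ : Subalgebra Γ(Y, W) V, R₀.FG ∧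
      ∀ R : Subalgebra Γ(Y, W) V, R₀ ≤ R → ¬ ∃ x x' : ↑(pullback f (Spec.map (CommRingCat.ofHom (algebraMap Γ(Y, W) R)) ≫ hW.fromSpec)),
        x' ⤳ x ∧ pullback.fst f _ x ∈ (U.1 : X.Opens) ∧
        pullback.snd f _ x = (⟨(IsLocalRing.maximalIdeal V).comap (R.val : R →+* V), inferInstance⟩ : PrimeSpectrum R) ∧
        pullback.snd f _ x' = gen R := by
    rintro ⟨⟨U, hU⟩, hUW⟩
    let φA := f.appLE W U hUW
    algebraize [φA.hom]
    have hι : hU.fromSpec ≫ f = Spec.map φA ≫ hW.fromSpec := (hW.SpecMap_appLE_fromSpec f hU hUW).symm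
    have hV : NoPair (B := Γ(Y, W)) V (IsLocalRing.maximalIdeal V) Γ(X, U) := by
      intro Q' Q hQ' hQ hle hbot hP
      refine h ?_
      let l : Spec (CommRingCat.of (V ⊗[Γ(Y, W)] Γ(X, U))) ⟶ pullback f g :=
        pullback.lift (Spec.map (CommRingCat.ofHom (Algebra.TensorProduct.includeRight : Γ(X, U) →ₐ[Γ(Y, W)] _).toRingHom) ≫ hU.fromSpec)
          (Spec.map (CommRingCat.ofHom Algebra.TensorProduct.includeLeftRingHom)) (by
            rw [Category.assoc, hι, ← hψ, ← Category.assoc, ← Category.assoc, ← Spec.map_comp, ← Spec.map_comp]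
            congr 2
            ext b
            exact ((Algebra.TensorProduct.includeRight : Γ(X, U) →ₐ[Γ(Y, W)] V ⊗[Γ(Y, W)] Γ(X, U)).commutes b).trans
              ((Algebra.TensorProduct.includeLeft : V →ₐ[Γ(Y, W)] V ⊗[Γ(Y, W)] Γ(X, U)).commutes b).symm)
      refine ⟨l ⟨Q, hQ⟩, l ⟨Q', hQ'⟩, ((PrimeSpectrum.le_iff_specializes ⟨Q', hQ'⟩ ⟨Q, hQ⟩).1 hle).map l.continuous, ?_, ?_⟩
      · rw [← Scheme.Hom.comp_apply, pullback.lift_snd]
        exact PrimeSpectrum.ext hP
      · rw [← Scheme.Hom.comp_apply, pullback.lift_snd]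
        exact PrimeSpectrum.ext hbot
    obtain ⟨R₀, hR₀, hR₀'⟩ := noPair_descend hV
    refine ⟨R₀, hR₀, fun R hR => ?_⟩
    rintro ⟨x, x', hx, hxU, h1, h2⟩
    let gR := Spec.map (CommRingCat.ofHom (algebraMap Γ(Y, W) R)) ≫ hW.fromSpec
    let m : pullback (hU.fromSpec ≫ f) gR ⟶ pullback f gR :=
      pullback.map _ _ _ _ hU.fromSpec (𝟙 _) (𝟙 _) (by simp) (by simp)
    have hm : Set.range m = pullback.fst f gR ⁻¹' (U : Set X) := by
      rw [Scheme.Pullback.range_map, hU.range_fromSpec]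
      simp
    obtain ⟨z, hz⟩ : x ∈ Set.range m := hm ▸ hxU
    obtain ⟨z', hz'⟩ : x' ∈ Set.range m := hm ▸ (hx.map (pullback.fst f gR).continuous).mem_open U.2 hxU
    have hzz : z' ⤳ z := m.isOpenEmbedding.isInducing.specializes_iff.1 (by rw [hz, hz']; exact hx)
    let k : pullback (hU.fromSpec ≫ f) gR ⟶ Spec (CommRingCat.of (R ⊗[Γ(Y, W)] Γ(X, U))) :=
      pullback.lift (f := Spec.map (CommRingCat.ofHom (algebraMap Γ(Y, W) R)))
        (g := Spec.map (CommRingCat.ofHom (algebraMap Γ(Y, W) Γ(X, U)))) (pullback.snd _ _) (pullback.fst _ _) (by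
          rw [← cancel_mono hW.fromSpec, Category.assoc, Category.assoc]
          refine Eq.trans pullback.condition.symm ?_
          rw [hι]; rfl) ≫ (pullbackSpecIso Γ(Y, W) R Γ(X, U)).hom
    have hk : k ≫ Spec.map (CommRingCat.ofHom Algebra.TensorProduct.includeLeftRingHom) = pullback.snd _ _ := by
      simp only [k, Category.assoc, pullbackSpecIso_hom_fst, pullback.lift_fst]
    have hm2 : m ≫ pullback.snd f gR = pullback.snd _ _ := by simp [m]
    refine hR₀' R hR (k z').asIdeal (k z).asIdeal (k z').isPrime (k z).isPrime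
      ((PrimeSpectrum.le_iff_specializes (k z') (k z)).2 (hzz.map k.continuous)) ?_ ?_
    · refine congrArg PrimeSpectrum.asIdeal ((?_ : Spec.map (CommRingCat.ofHom Algebra.TensorProduct.includeLeftRingHom) (k z') = gen R))
      rw [← Scheme.Hom.comp_apply, hk, ← hm2, Scheme.Hom.comp_apply, hz', h2]
    · refine congrArg PrimeSpectrum.asIdeal ((?_ : Spec.map (CommRingCat.ofHom Algebra.TensorProduct.includeLeftRingHom) (k z) = (⟨(IsLocalRing.maximalIdeal V).comap (R.val : R →+* V), inferInstance⟩ : PrimeSpectrum R)))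
      rw [← Scheme.Hom.comp_apply, hk, ← hm2, Scheme.Hom.comp_apply, hz, h1]
  choose R₀ hR₀ hR₀' using key
  let R : Subalgebra Γ(Y, W) V := t.sup R₀
  have hR : R.FG := by
    refine Finset.sup_induction Subalgebra.fg_bot (fun a ha b hb => ha.sup hb) fun U _ => hR₀ U
  refine ⟨W, hW, R, inferInstance, inferInstance, CommRingCat.ofHom (algebraMap Γ(Y, W) R),
    (⟨(IsLocalRing.maximalIdeal V).comap (R.val : R →+* V), inferInstance⟩ : PrimeSpectrum R), ?_, ?_⟩
  · haveI : Algebra.FiniteType Γ(Y, W) R := (Subalgebra.fg_iff_finiteType R).1 hR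
    rw [CommRingCat.hom_ofHom, RingHom.finiteType_algebraMap]
    infer_instance
  · rintro ⟨x, x', hx, h1, h2⟩
    have hxW : pullback.fst f _ x ∈ f ⁻¹ᵁ W := by
      show f _ ∈ W
      rw [← Scheme.Hom.comp_apply, pullback.condition, ← Category.assoc, Scheme.Hom.comp_apply]
      exact hW.range_fromSpec.le ⟨_, rfl⟩
    obtain ⟨U, hUt, hxU⟩ := Set.mem_iUnion₂.1 (ht hxW)
    exact hR₀' U R (Finset.le_sup hUt) ⟨x, x', hx, hxU, h1, h2⟩

end Scheme

end Groth.Agent.SubtrVal
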